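import Mathlib
import Cfsg.Agent.Base
import Cfsg.Agent.Lib.Co3S.Defs
import Cfsg.Agent.Lib.StdW.A
import Cfsg.Agent.Lib.Golay.Mathieu

/-! Standard subgroups of type `M₁₂`: small facts shared by `A1` and `A2`. -/

set_option autoImplicit false
set_option linter.unusedSectionVars false

namespace H30.CS.A0

open Subgroup H69 Cfsg H70.TM H30.CM H36.SW

variable {X : Type} [Group X] [Finite X] {J : Subgroup X} {a b s u x y g h : X}

theorem memJ (M : MX0 J a b s u x y g h) : a ∈ J ∧ b ∈ J ∧ s ∈ J ∧ u ∈ J ∧ x ∈ J ∧ y ∈ J := by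
  rw [M.gen]
  refine ⟨?_, ?_, ?_, ?_, ?_, ?_⟩ <;> exact subset_closure (by simp)

theorem inf_one : J ⊓ 𝐂₀((1 : X)) = J :=
  inf_eq_left.2 fun j _ => mem_centralizer_singleton_iff.2 (by rw [mul_one, one_mul])

theorem s_ne (M : MX0 J a b s u x y g h) : s ≠ 1 := fun e => by
  have h1 := M.cs
  rw [e, inf_one] at h1
  have h2 := card_dvd_of_le (inf_le_left : J ⊓ 𝐂₀(a * a) ≤ J)
  rw [M.ct, h1] at h2
  exact absurd h2 (by norm_num)

theorem t_ne (M : MX0 J a b s u x y g h) : a * a ≠ 1 := fun e => by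
  have h1 := M.ct
  rw [e, inf_one] at h1
  have h2 := card_dvd_of_le (inf_le_left : J ⊓ 𝐂₀(s) ≤ J)
  rw [M.cs, h1] at h2
  exact absurd h2 (by norm_num)

theorem simple (M : MX0 J a b s u x y g h) : IsSimpleGroup J :=
  haveI := H15.isSimple_M12
  M.iso.elim fun e => e.isSimpleGroup

variable {G : Type*} [Group G] [Finite G] {L : Subgroup G} {α : G → X}

/-- conjugation by an element of `N(L)` -/
theorem bad_cj (c : Cov J L α) {r k l : G} (hb : A.Bad L r k) (lN : l ∈ 𝐍(L)) :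
    A.Bad L (l * r) k ∧ α (l * r * k * (l * r)⁻¹) = α l * α (r * k * r⁻¹) * (α l)⁻¹ := by
  have e1 : l * r * k * (l * r)⁻¹ = l * (r * k * r⁻¹) * l⁻¹ := by group
  refine ⟨⟨fun h => hb.gN ((mul_mem_cancel_left lN).1 h), hb.kK, hb.k2, hb.k1,
    e1 ▸ mul_mem (mul_mem lN hb.sN) (inv_mem lN)⟩, ?_⟩
  rw [e1, c.conj lN hb.sN]

/-- normal form of the image -/
theorem bad_norm (M : MX J a b s u x y g h) (st : A.St L) (c : Cov J L α) {r k : G}
    (hb : A.Bad L r k) : ∃ r', A.Bad L r' k ∧ ∃ j ∈ J, α (r' * k * r'⁻¹) = j * α (r * k * r⁻¹) * j⁻¹ ∧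
      (α (r' * k * r'⁻¹) = a * a ∨ α (r' * k * r'⁻¹) = s ∨ α (r' * k * r'⁻¹) = g) := by
  obtain ⟨j, hj, e⟩ := M.inv _ (c.sq hb.sN (cjsq hb.k2 r))
    fun e => hb.gN (st.T r k hb.kK (P2.of_sq hb.k2) hb.k1 ((c.ker _ hb.sN).1 e))
  obtain ⟨l, hl, rfl⟩ := c.onto j hj
  obtain ⟨h1, h2⟩ := bad_cj c hb (le_normalizer hl)
  exact ⟨l * r, h1, _, hj, h2, h2 ▸ e⟩

theorem inj (c : Cov J L α) (hi : ∀ l ∈ L, α l = 1 → l = 1) {p q : G} (hp : p ∈ L) (hq : q ∈ L)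
    (e : α p = α q) : p = q :=
  inv_mul_eq_one.1 (hi _ (mul_mem (inv_mem hp) hq) (by
    rw [c.mul' (inv_mem hp) hq, c.inv (le_normalizer hp), e, inv_mul_cancel]))

theorem sK {r k : G} (hb : A.Bad L r k) : r * k * r⁻¹ ∈ 𝐂(L ^ᶜ r) :=
  cj_centralizer L r ▸ cj_mem r hb.kK

theorem cenN (st : A.St L) {r k z : G} (hb : A.Bad L r k)
    (e : z * (r * k * r⁻¹) = r * k * r⁻¹ * z) : z ∈ 𝐍(L ^ᶜ r) :=
  st.T' r (sK hb) ((P2.of_sq hb.k2).conj r) (cjne hb.k1 r) (by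
    rw [e, mul_inv_cancel_right]; exact sK hb)

end H30.CS.A0
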