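import Mathlib
import Cfsg.Agent.Base
import Cfsg.Agent.Lib.Co3S.Defs
import Cfsg.Agent.Lib.StdW.A
import Cfsg.Agent.Lib.Co3S.A0

set_option autoImplicit false
set_option maxRecDepth 100000
set_option linter.unusedSectionVars false

namespace H30.CS

open Subgroup H69 Cfsg H70.TM H30.CM H36.SW

variable {X : Type} [Group X] [Finite X] {J : Subgroup X} {a b s u x y g h : X}

variable {G : Type*} [Group G] [Finite G] {L : Subgroup G} {α : G → X}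

open scoped commutatorElement in
theorem MX0.exists_cov (M : MX0 J a b s u x y g h) (e : Nonempty (L ≃* Spor.M12)) :
    ∃ α : G → X, Cov J L α ∧ ∀ l ∈ L, α l = 1 → l = 1 := by
  classical
  obtain ⟨e⟩ : Nonempty (L ≃* J) := e.elim fun e1 => M.iso.elim fun e2 => ⟨e1.trans e2.symm⟩
  have key : ∀ n : 𝐍(L), ∃ r : X, ∀ l : L,
      (e (L.normalizerMonoidHom n l) : X) = r * e l * r⁻¹ := fun n => by
    obtain ⟨r, hr⟩ := M.aut (MulAut.congr e (L.normalizerMonoidHom n))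
    exact ⟨r, fun l => by simpa using hr (e l)⟩
  choose β hβ using key
  have un : ∀ (n : 𝐍(L)) (r : X), (∀ l : L,
      (e (L.normalizerMonoidHom n l) : X) = r * e l * r⁻¹) → β n = r := fun n r h =>
    (inv_mul_eq_one.1 (M.cen (r⁻¹ * β n) fun j hj => by
      obtain ⟨l, hl⟩ := e.surjective ⟨j, hj⟩
      obtain rfl : (e l : X) = j := congrArg Subtype.val hl
      calc _ = r⁻¹ * (β n * e l * (β n)⁻¹) * β n := by group
        _ = _ := by rw [← hβ, h]; group)).symm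
  have ea : ∀ l : L, β ⟨l, le_normalizer l.2⟩ = e l := fun l => un _ _ fun m => by
    rw [← coe_inv, ← coe_mul, ← coe_mul, ← map_inv, ← map_mul, ← map_mul]; rfl
  have ea' : ∀ l : L, (if h : (l : G) ∈ 𝐍(L) then β ⟨l, h⟩ else 1) = e l := fun l => by
    rw [dif_pos (le_normalizer l.2), ea]
  have hi : ∀ l ∈ L, (if h : l ∈ 𝐍(L) then β ⟨l, h⟩ else 1) = 1 → l = 1 := fun l hl h =>
    congrArg Subtype.val (e.map_eq_one_iff.1 (Subtype.ext ((ea' ⟨l, hl⟩).symm.trans h)))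
  have hp : L ≤ ⁅L, L⁆ := by
    have := A0.simple M
    have := e.isSimpleGroup
    rcases (inferInstance : (commutator L).Normal).eq_bot_or_eq_top with h | h
    · refine absurd (M.cen s fun j hj => ?_) (A0.s_ne M)
      obtain ⟨l, hl⟩ := e.surjective ⟨j, hj⟩
      obtain ⟨m, hm⟩ := e.surjective ⟨s, (A0.memJ M).2.2.1⟩
      have : ⁅m, l⁆ ∈ commutator L := commutator_mem_commutator (mem_top _) (mem_top _)
      rw [h, mem_bot, commutatorElement_eq_one_iff_mul_comm] at this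
      have := congrArg (fun z => (e z : X)) this
      simpa [hl, hm] using this
    · rw [← map_subtype_commutator, h, ← MonoidHom.range_eq_map, range_subtype]
  refine ⟨fun n => if h : n ∈ 𝐍(L) then β ⟨n, h⟩ else 1, ⟨fun n hn k hk => ?_, fun l hl => ?_,
    fun j hj => ?_, fun n hn => ?_, fun l hl h => ?_, hp⟩, hi⟩
  · rw [dif_pos hn, dif_pos hk, dif_pos (mul_mem hn hk)]
    refine un (⟨n, hn⟩ * ⟨k, hk⟩) _ fun l => ?_
    rw [map_mul, MulAut.mul_apply, hβ, hβ]; group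
  · exact ea' ⟨l, hl⟩ ▸ (e _).2
  · obtain ⟨l, hl⟩ := e.surjective ⟨j, hj⟩
    exact ⟨l, l.2, (ea' l).trans (congrArg Subtype.val hl)⟩
  · rw [dif_pos hn]
    refine ⟨fun h l hl => ?_, fun h => un _ _ fun l => ?_⟩
    · have := hβ ⟨n, hn⟩ ⟨l, hl⟩
      rw [h, one_mul, inv_one, mul_one] at this
      exact (mul_inv_eq_iff_eq_mul.1 (congrArg Subtype.val (e.injective (Subtype.ext this)))).symm
    · rw [one_mul, inv_one, mul_one]; congr 2
      exact Subtype.ext (conj_eq_of_mem_centralizer h l.2)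
  · rw [hi l hl h, orderOf_one]; exact odd_one

namespace A1

theorem step0 [IsSimpleGroup G] (hL : IsStandardSubgroup L) (c : Cov J L α) {j : X} (hj : j ∈ J)
    (j2 : j * j = 1) (j1 : j ≠ 1) : ∃ r k, A.Bad L r k := by
  have st := A.St.of hL
  obtain ⟨k, hk, k2, k1⟩ := st.ev
  have K1 : 𝐂(L) ≠ ⊥ := fun e => k1 (by rwa [e, mem_bot] at hk)
  by_contra hb
  rcases Cfsg.Agent.S1911.result 𝐂(L) hL.2.1 (fun g hg => (H9.odd_card_iff_forall_orderOf_ne_two _).2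
      fun s hs s2 => hb (by
        obtain ⟨i, hi, rfl⟩ := mem_cj'.1 hs.1
        rw [H9.orderOf_conj] at s2
        rw [← hL.2.2.2] at hg hs
        exact ⟨g, i, hg, hi, H9.mul_self_of_orderOf_two s2, H9.ne_one_of_orderOf_two s2, hs.2⟩)) with h | h
  · exact st.S 1 (by rw [cj_one, h.eq_bot_or_eq_top.resolve_left K1]; exact le_top)
  · have KY : 𝐂(L) ≤ normalClosure (𝐂(L) : Set G) := le_normalClosure
    have LY : L ≤ normalClosure (𝐂(L) : Set G) := by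
      rw [(inferInstance : (normalClosure (𝐂(L) : Set G)).Normal).eq_bot_or_eq_top.resolve_left
        fun e => K1 (le_bot_iff.1 (e ▸ KY))]
      exact le_top
    obtain ⟨a, ha, ea, a2⟩ := c.lifti hj j2
    obtain ⟨u, u2, hu⟩ := H42.SE.exists_involution_not_mem h
    obtain ⟨d, hd, -, e⟩ := H42.SE.exists_conj h (s := ⟨k, KY hk⟩) (t := ⟨a, LY ha⟩)
      (H9.mul_self_of_orderOf_two u2) hu
      (H9.orderOf_eq_two_of_mul_self (fun e => k1 (congrArg Subtype.val e)) (Subtype.ext k2))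
      (le_normalizer hk)
      (H9.orderOf_eq_two_of_mul_self (fun e => j1 (by
        rw [← ea, show a = 1 from congrArg Subtype.val e, c.one])) (Subtype.ext a2))
      (normalizer_le_normalizer_centralizer L (le_normalizer ha))
    have h1 : a ∈ 𝐂(L) := by
      rw [← show (d : G) * k * (d : G)⁻¹ = a from congrArg Subtype.val e]
      exact conj_mem_of_mem_normalizer hd.1 hk
    exact j1 (by rw [← ea, c.cen h1])

theorem inverts {σ : G} (s2 : σ * σ = 1) (z : G) :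
    σ * (σ * z * σ⁻¹ * z⁻¹) * σ⁻¹ = (σ * z * σ⁻¹ * z⁻¹)⁻¹ := by
  have si : σ⁻¹ = σ := inv_eq_of_mul_eq_one_left s2
  calc _ = σ * σ * z * (σ * σ)⁻¹ * (σ * z⁻¹ * σ⁻¹) := by group
    _ = _ := by rw [s2]; group

/-- the dihedral argument -/
theorem dih {σ : G} (s2 : σ * σ = 1) {K : Subgroup G} (hn : σ ∈ 𝐍(K)) : ∀ (n : ℕ), ∀ z ∈ K,
    (σ * z * σ⁻¹ * z⁻¹) ^ 2 ^ n = 1 → σ * z * σ⁻¹ * z⁻¹ ≠ 1 →
    ∃ ρ ∈ K, ∃ k ∈ K, k ≠ 1 ∧ k * k = 1 ∧ k * σ = σ * k ∧ ρ * σ * ρ⁻¹ = σ * k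
  | 0, z, _, h, h1 => absurd (by simpa using h) h1
  | n + 1, z, hz, h, h1 => by
    obtain ⟨k, hk⟩ : ∃ k, k = σ * z * σ⁻¹ * z⁻¹ := ⟨_, rfl⟩
    have kK : k ∈ K := hk ▸ mul_mem (conj_mem_of_mem_normalizer hn hz) (inv_mem hz)
    have ki : σ * k * σ⁻¹ = k⁻¹ := hk ▸ inverts s2 z
    by_cases e : k * k = 1
    · refine ⟨z, hz, k, kK, hk ▸ h1, e, ?_, ?_⟩
      · rw [inv_eq_of_mul_eq_one_left e] at ki
        exact (mul_inv_eq_iff_eq_mul.1 ki).symm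
      · rw [hk, inv_eq_of_mul_eq_one_left s2, ← mul_assoc, ← mul_assoc, ← mul_assoc, s2, one_mul]
    · refine dih s2 hn n k kK ?_ fun e1 => e ?_
      · rw [ki, ← pow_two, ← pow_mul, ← pow_succ', inv_pow, hk, h, inv_one]
      · rw [ki, ← mul_inv_rev] at e1
        exact inv_eq_one.1 e1

theorem exists_pow_two : ∀ (K : ℕ) (y : G), y ^ 2 ^ K = 1 → y ≠ 1 →
    ∃ m : ℕ, y ^ m ≠ 1 ∧ (y ^ m) ^ 2 = 1
  | 0, y, h, h1 => absurd (by simpa using h) h1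
  | K + 1, y, h, h1 => by
    by_cases e : y ^ 2 = 1
    · exact ⟨1, by rwa [pow_one], by rwa [pow_one]⟩
    · obtain ⟨m, h2, h3⟩ := exists_pow_two K (y ^ 2) (by rwa [← pow_mul, ← pow_succ']) e
      exact ⟨2 * m, by rwa [pow_mul], by rwa [pow_mul]⟩

theorem three (hJ : J.index = 2) (p q : X) : p ∈ J ∨ q ∈ J ∨ p * q ∈ J := by
  rw [mul_mem_iff_of_index_two hJ]; tauto

/-- an involution of `C(L)` with inner image -/
theorem star {r k k' : G} (hb : A.Bad L r k) (hk : k' ∈ 𝐂(L)) (k2 : P2 k') (k1 : k' ≠ 1)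
    (c : Cov J L α) (kN : k' ∈ 𝐍(L ^ᶜ r)) (hJ : α (r⁻¹ * k' * r) ∈ J) :
    ∃ r k, A.Bad L r k ∧ α (r * k * r⁻¹) ∈ J := by
  obtain ⟨n, hn⟩ := k2
  obtain ⟨m, m1, m2⟩ := exists_pow_two n k' hn k1
  have h1 := pow_mem kN m
  have h2 := pow_mem hJ m
  rw [← (c.cj r).pow kN] at h2
  rw [← cj_normalizer, mem_cj] at h1
  exact ⟨r⁻¹, k' ^ m, ⟨fun h => hb.gN (by simpa using inv_mem h), pow_mem hk m, by rwa [← pow_two], m1,
    by rwa [inv_inv]⟩, by rwa [inv_inv]⟩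

theorem caseB (M : MX J a b s u x y g h) (st : A.St L) (c : Cov J L α)
    (hi : ∀ l ∈ L, α l = 1 → l = 1) {r k ρ k' : G} (hb : A.Bad L r k) (eg : α (r * k * r⁻¹) = g)
    (hρ : ρ ∈ 𝐂(L)) (hk : k' ∈ 𝐂(L)) (k1 : k' ≠ 1) (k2 : k' * k' = 1)
    (kc : k' * (r * k * r⁻¹) = r * k * r⁻¹ * k') (eρ : ρ * (r * k * r⁻¹) * ρ⁻¹ = r * k * r⁻¹ * k') :
    ∃ r k, A.Bad L r k ∧ α (r * k * r⁻¹) ∈ J := by
  obtain ⟨-, -, sJ, uJ, -⟩ := A0.memJ M.toMX0
  obtain ⟨-, -, -, ss, -, -, uu, -, -, us, -⟩ := M.r2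
  have s2 := cjsq hb.k2 r
  have sN := hb.sN
  have sK := A0.sK hb
  have cN := fun z => A0.cenN (z := z) st hb
  have c' := c.cj r
  obtain ⟨σ, hσ⟩ : ∃ σ, σ = r * k * r⁻¹ := ⟨_, rfl⟩
  rw [← hσ] at s2 sN sK cN eg kc eρ
  obtain ⟨U, hU, eU⟩ := c.onto u uJ
  obtain ⟨z, hz⟩ : ∃ z, z = σ * U * σ⁻¹ * U⁻¹ := ⟨_, rfl⟩
  have zL : z ∈ L := hz ▸ mul_mem (conj_mem_of_mem_normalizer sN hU) (inv_mem hU)
  have ez : α z = s := by
    rw [hz, c.mul' (conj_mem_of_mem_normalizer sN hU) (inv_mem hU), c.conj sN (le_normalizer hU),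
      c.inv (le_normalizer hU), eg, eU, M.gu, us, mul_inv_cancel_right]
  have z2 : z * z = 1 := hi _ (mul_mem zL zL) (by rw [c.mul' zL zL, ez, ss])
  have zc : z * σ = σ * z := by
    have ki : σ * z * σ⁻¹ = z⁻¹ := hz ▸ inverts s2 U
    rw [inv_eq_of_mul_eq_one_left z2] at ki
    exact (mul_inv_eq_iff_eq_mul.1 ki).symm
  have eU' : U * σ * U⁻¹ = σ * z := by
    rw [hz, inv_eq_of_mul_eq_one_left s2, ← mul_assoc, ← mul_assoc, ← mul_assoc, s2, one_mul]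
  have fin : ∀ w d, w ∈ 𝐍(L) → α w = s → w * w = 1 → w * σ = σ * w → d * σ * d⁻¹ = σ * w →
      α (r⁻¹ * w * r) ∈ J → ∃ r k, A.Bad L r k ∧ α (r * k * r⁻¹) ∈ J := fun w d wN ew w2 wc ed hJ => by
    have wN' := cN w wc
    have e1 : r⁻¹ * d * r * k * (r⁻¹ * d * r)⁻¹ = r⁻¹ * (σ * w) * r := by rw [← ed, hσ]; group
    by_cases q : r⁻¹ * d * r ∈ 𝐍(L)
    · have h1 := conj_mem_of_mem_normalizer (normalizer_le_normalizer_centralizer L q) hb.kK
      rw [e1, hσ, show r⁻¹ * (r * k * r⁻¹ * w) * r = k * (r⁻¹ * w * r) by group,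
        mul_mem_cancel_left hb.kK] at h1
      have e2 : r * (r⁻¹ * w * r) * r⁻¹ = w := by group
      refine ⟨r, r⁻¹ * w * r, ⟨hb.gN, h1, ?_, cjne' (fun e => A0.s_ne M.toMX0 ?_) r, by rwa [e2]⟩, ?_⟩
      · simpa using cjsq w2 r⁻¹
      · rw [← ew, e, c.one]
      · rw [e2, ew]; exact sJ
    · refine ⟨r⁻¹ * d * r, k, ⟨q, hb.kK, hb.k2, hb.k1, ?_⟩, ?_⟩
      · rw [e1, ← mem_cj, cj_normalizer]
        exact mul_mem (centralizer_le_normalizer _ sK) wN'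
      · rw [e1]
        exact (c'.cen_mul wN' sK).symm ▸ hJ
  have zk : z * k' = k' * z := hk z zL
  rcases three M.idx (α (r⁻¹ * z * r)) (α (r⁻¹ * k' * r)) with h1 | h1 | h1
  · exact fin z U (le_normalizer zL) ez z2 zc eU' h1
  · exact star hb hk (P2.of_sq k2) k1 c (cN k' kc) h1
  · refine fin (z * k') (U * ρ) (mul_mem (le_normalizer zL) (centralizer_le_normalizer _ hk))
      (by rw [c.mul_cen (le_normalizer zL) hk, ez]) ?_ ((Commute.mul_left zc kc :)) ?_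
      ((c'.mul _ (cN z zc) _ (cN k' kc)).symm ▸ h1)
    · rw [Commute.mul_mul_mul_comm zk.symm, z2, k2, one_mul]
    · calc _ = U * (ρ * σ * ρ⁻¹) * U⁻¹ := by group
        _ = U * σ * (k' * U⁻¹) := by rw [eρ]; group
        _ = _ := by rw [← hk _ (inv_mem hU), ← mul_assoc, eU', mul_assoc]

end A1

theorem bad_inner [IsSimpleGroup G] (M : MX J a b s u x y g h) (hL : IsStandardSubgroup L)
    (c : Cov J L α) (hi : ∀ l ∈ L, α l = 1 → l = 1) :
    (∀ t ∈ 𝐂(L), t * t = 1 → t ≠ 1 → IsSylowIn 2 (zpowers t) 𝐂(L)) ∨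
      ∃ r k, A.Bad L r k ∧ α (r * k * r⁻¹) ∈ J := by
  have st := A.St.of hL
  obtain ⟨aJ, -, sJ, -⟩ := A0.memJ M.toMX0
  obtain ⟨r0, k, hb0⟩ := A1.step0 hL c sJ M.r2.2.2.2.1 (A0.s_ne M.toMX0)
  obtain ⟨r, hb, -, -, -, eg⟩ := A0.bad_norm M st c hb0
  refine or_iff_not_imp_right.2 fun no t ht t2 t1 => ?_
  replace eg : α (r * k * r⁻¹) = g := (eg.resolve_left fun e => no ⟨r, k, hb, e ▸ mul_mem aJ aJ⟩).resolve_left
    fun e => no ⟨r, k, hb, e ▸ sJ⟩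
  have s2 := cjsq hb.k2 r
  have sN := normalizer_le_normalizer_centralizer L hb.sN
  obtain ⟨S, hS, h1⟩ := exists_isSylowIn_le (P2.of_sq s2).zpowers (zpowers_le.2 sN)
  have sS := h1 (mem_zpowers _)
  have hR := hS.inf_normal le_normalizer le_rfl
  have rN : ∀ z ∈ S ⊓ 𝐂(L), z ∈ 𝐍(L ^ᶜ r) := fun z hz => A0.cenN st hb (by
    by_contra ne
    obtain ⟨n, hn⟩ := P2.of_mem hS.isP (mul_mem (mul_mem (mul_mem sS hz.1) (inv_mem sS)) (inv_mem hz.1))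
    obtain ⟨ρ, hρ, k', hk, k1, k2, kc, eρ⟩ := A1.dih s2 sN n z hz.2 hn
      fun e => ne (mul_inv_eq_iff_eq_mul.1 (mul_inv_eq_one.1 e)).symm
    exact no (A1.caseB M st c hi hb eg hρ hk k1 k2 kc eρ))
  have key : ∀ z ∈ S ⊓ 𝐂(L), α (r⁻¹ * z * r) ∈ J → z = 1 := fun z hz hJ => by
    by_contra z1
    exact no (A1.star hb hz.2 (P2.of_mem hS.isP hz.1) z1 c (rN z hz) hJ)
  have two : ∀ z ∈ S ⊓ 𝐂(L), ∀ w ∈ S ⊓ 𝐂(L), z ≠ 1 → w ≠ 1 → z * w = 1 := fun z hz w hw z1 w1 => by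
    rcases A1.three M.idx (α (r⁻¹ * z * r)) (α (r⁻¹ * w * r)) with h1 | h1 | h1
    · exact absurd (key z hz h1) z1
    · exact absurd (key w hw h1) w1
    · exact key _ (mul_mem hz hw) (((c.cj r).mul _ (rN z hz) _ (rN w hw)).symm ▸ h1)
  refine hR.of_card_le (P2.of_sq t2).zpowers (zpowers_le.2 ht) ?_
  by_cases e : ∃ z ∈ S ⊓ 𝐂(L), z ≠ 1
  · obtain ⟨z, hz, z1⟩ := e
    have z2 := two z hz z hz z1 z1
    rw [card_zp t2 t1, ← card_zp z2 z1]
    exact card_le_of_le fun w hw => (mem_zp z2).2 (or_iff_not_imp_left.2 fun w1 =>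
      mul_left_cancel ((two z hz w hw z1 w1).trans z2.symm))
  · exact card_le_of_le fun w hw => (by_contra fun w1 => e ⟨w, hw, w1⟩ : w = 1) ▸ one_mem _

end H30.CS
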