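import Mathlib
import Cfsg.Agent.Base
import Cfsg.Agent.Lib.Co3S.Defs
import Cfsg.Agent.Lib.StdW.A
import Cfsg.Agent.Lib.Co3S.A0

set_option autoImplicit false
set_option maxRecDepth 100000
set_option linter.unusedSectionVars false

namespace H30.CS

open Subgroup H69 Cfsg H70.TM H30.CM H36.SW

variable {X : Type} [Group X] [Finite X] {J : Subgroup X} {a b s u x y g h : X}

variable {G : Type*} [Group G] [Finite G] {L : Subgroup G} {α : G → X}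

namespace A2

open E2 in
theorem idE : E2.a * E2.a * (E2.a * E2.a) = 1 ∧ E2.b * E2.b * (E2.b * E2.b) = 1 ∧
    E2.b * (E2.a * E2.a) = E2.a * E2.a * E2.b ∧ E2.s * (E2.a * E2.a) = E2.a * E2.a * E2.s ∧
    E2.u * (E2.a * E2.a) = E2.a * E2.a * E2.u ∧ E2.y * (E2.a * E2.a) = E2.a * E2.a * E2.y ∧
    E2.s * E2.b * (E2.s * E2.b) = 1 ∧ E2.s * E2.b * (E2.b * E2.b) = E2.b * E2.b * (E2.s * E2.b) ∧
    E2.b * E2.b * (E2.y * (E2.b * E2.b) * E2.y⁻¹) = E2.y * (E2.b * E2.b) * E2.y⁻¹ * (E2.b * E2.b) ∧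
    E2.a * (E2.y * (E2.b * E2.b) * E2.y⁻¹ * (E2.b * E2.b)⁻¹) * E2.a⁻¹ *
      (E2.y * (E2.b * E2.b) * E2.y⁻¹ * (E2.b * E2.b)⁻¹)⁻¹ = E2.a * E2.a ∧
    (E2.a * E2.a)⁻¹ * (E2.y * (E2.y * (E2.b * E2.b) * E2.y⁻¹ * (E2.b * E2.b)⁻¹) * E2.y⁻¹) =
      E2.b * E2.b := by decide +kernel

theorem ids {a b s u y : G} (R : E2.Rel 1 a b s u y) : a * a * (a * a) = 1 ∧ b * b * (b * b) = 1 ∧
    b * (a * a) = a * a * b ∧ s * (a * a) = a * a * s ∧ u * (a * a) = a * a * u ∧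
    y * (a * a) = a * a * y ∧ s * b * (s * b) = 1 ∧ s * b * (b * b) = b * b * (s * b) ∧
    b * b * (y * (b * b) * y⁻¹) = y * (b * b) * y⁻¹ * (b * b) ∧
    a * (y * (b * b) * y⁻¹ * (b * b)⁻¹) * a⁻¹ * (y * (b * b) * y⁻¹ * (b * b)⁻¹)⁻¹ = a * a ∧
    (a * a)⁻¹ * (y * (y * (b * b) * y⁻¹ * (b * b)⁻¹) * y⁻¹) = b * b := by
  obtain ⟨φ, -, rfl, rfl, rfl, rfl, rfl⟩ := E2.model R
  obtain ⟨h1, h2, h3, h4, h5, h6, h7, h8, h9, h10, h11⟩ := idE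
  simp only [← map_mul, ← map_inv]
  exact ⟨h1 ▸ map_one φ, h2 ▸ map_one φ, congrArg φ h3, congrArg φ h4, congrArg φ h5, congrArg φ h6,
    h7 ▸ map_one φ, congrArg φ h8, congrArg φ h9, congrArg φ h10, congrArg φ h11⟩

theorem lift (M : MX0 J a b s u x y g h) (c : Cov J L α) (hi : ∀ l ∈ L, α l = 1 → l = 1) :
    ∃ A B S U Z Y H : G, (A ∈ L ∧ B ∈ L ∧ S ∈ L ∧ U ∈ L ∧ Z ∈ L ∧ Y ∈ L ∧ H ∈ L) ∧
      α (A * A) = a * a ∧ α S = s ∧ E2.Rel 1 A B S U Y ∧ Z * A * Z⁻¹ = B ∧ Z * S = S * Z ∧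
      H ^ 5 = 1 ∧ H * S = S * H ∧ (H * (A * A)) ^ 3 = 1 ∧
      A * A * U * Z * H * (A * A * U * Z)⁻¹ = H * H ∧
      ∀ D : Subgroup G, A ∈ D → B ∈ D → S ∈ D → U ∈ D → Z ∈ D → Y ∈ D → L ≤ D := by
  obtain ⟨aJ, bJ, sJ, uJ, xJ, yJ⟩ := A0.memJ M
  obtain ⟨f, hf⟩ : ∃ f : L →* X, ∀ l : L, f l = α l :=
    ⟨c.hom.comp (inclusion le_normalizer), fun _ => rfl⟩
  have fi : Function.Injective f := (injective_iff_map_eq_one f).2 fun l e =>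
    Subtype.ext (hi l l.2 ((hf l).symm.trans e))
  have on : ∀ j ∈ J, ∃ l : L, f l = j := fun j hj =>
    let ⟨l, hl, e⟩ := c.onto j hj; ⟨⟨l, hl⟩, (hf _).trans e⟩
  obtain ⟨A, rfl⟩ := on a aJ
  obtain ⟨B, rfl⟩ := on b bJ
  obtain ⟨S, rfl⟩ := on s sJ
  obtain ⟨U, rfl⟩ := on u uJ
  obtain ⟨Z, rfl⟩ := on x xJ
  obtain ⟨Y, rfl⟩ := on y yJ
  obtain ⟨H, rfl⟩ := on h M.hJ
  have tr : ∀ {p q : L}, f p = f q → (p : G) = q := fun e => congrArg Subtype.val (fi e)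
  refine ⟨A, B, S, U, Z, Y, H, ⟨A.2, B.2, S.2, U.2, Z.2, Y.2, H.2⟩,
    (hf (A * A)).symm.trans (map_mul f A A), (hf S).symm,
    (E2.Rel.of_map fi (e := 1) (by rw [map_one]; exact M.r2)).map L.subtype,
    tr (p := Z * A * Z⁻¹) (by simpa only [map_mul, map_inv] using M.xa),
    tr (p := Z * S) (q := S * Z) (by simpa only [map_mul] using M.xs),
    tr (p := H ^ 5) (q := 1) (by simpa only [map_pow, map_one] using M.h5),
    tr (p := H * S) (q := S * H) (by simpa only [map_mul] using M.hs),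
    tr (p := (H * (A * A)) ^ 3) (q := 1) (by simpa only [map_mul, map_pow, map_one] using M.ht),
    tr (p := A * A * U * Z * H * (A * A * U * Z)⁻¹) (q := H * H)
      (by simpa only [map_mul, map_inv] using M.fh), fun D h1 h2 h3 h4 h5 h6 => ?_⟩
  refine (c.gen (D := L ⊓ D) inf_le_left fun j hj =>
    c.of_closure (inf_le_left.trans le_normalizer) ?_ (M.gen ▸ hj)).trans inf_le_right
  rintro _ (rfl | rfl | rfl | rfl | rfl | rfl)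
  exacts [⟨A, ⟨A.2, h1⟩, (hf _).symm⟩, ⟨B, ⟨B.2, h2⟩, (hf _).symm⟩, ⟨S, ⟨S.2, h3⟩, (hf _).symm⟩,
    ⟨U, ⟨U.2, h4⟩, (hf _).symm⟩, ⟨Z, ⟨Z.2, h5⟩, (hf _).symm⟩, ⟨Y, ⟨Y.2, h6⟩, (hf _).symm⟩]

theorem no4 (M : MX J a b s u x y g h) (st : A.St L) (c : Cov J L α)
    (hi : ∀ l ∈ L, α l = 1 → l = 1) {r k a' k1 : G} (hb : A.Bad L r k) (ha : a' ∈ L)
    (ea : α a' = a * a ∨ α a' = s) (hk1 : k1 ∈ 𝐂(L)) (es : r * k * r⁻¹ = a' * k1) {m n : G}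
    (hm : m ∈ 𝐂(L)) (hn : n ∈ 𝐂(L)) (mk : m * k1 = k1 * m) (nk : n * k1 = k1 * n)
    (mn : m * n = n * m) (m4 : m ^ 4 = 1) (n4 : n ^ 4 = 1) (m1 : m ≠ 1) (n1 : n ≠ 1) : m = n := by
  by_contra ne
  obtain ⟨β, c'⟩ : ∃ β : G → X, Cov J (L ^ᶜ r) β := ⟨_, c.cj r⟩
  obtain ⟨A, B, S, U, Z, Y, H, ⟨hA, hB, hS, hU, hZ, hY, hH⟩, eT, eS, R, xa, xs, h5, hs, ht, fh, gen⟩ :=
    lift M.toMX0 c hi
  obtain ⟨t2, v2, bt, st', ut, yt, f2, fv, vy, i1, i2⟩ := ids R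
  obtain ⟨-, -, -, -, -, -, -, -, -, us, -, -, -, -, -, y3, -, -, -, -, fy, -⟩ := R
  have CN : ∀ z, z * a' = a' * z → z * k1 = k1 * z → z ∈ 𝐍(L ^ᶜ r) := fun z h1 h2 =>
    A0.cenN st hb (by rw [es]; exact Commute.mul_right h1 h2)
  have CL : ∀ z ∈ L, z * a' = a' * z → z ∈ 𝐍(L ^ᶜ r) := fun z hz h1 => CN z h1 (hk1 z hz)
  have mN := CN m (hm a' ha).symm mk
  have nN := CN n (hn a' ha).symm nk
  have bm : β m ≠ 1 := fun e => m1 (st.two hb.gN hm ((c'.ker m mN).1 e) (P2.of_four m4))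
  have bn : β n ≠ 1 := fun e => n1 (st.two hb.gN hn ((c'.ker n nN).1 e) (P2.of_four n4))
  have bne : β m ≠ β n := fun e => ne (inv_mul_eq_one.1 (st.two hb.gN (mul_mem (inv_mem hm) hn)
    (c'.inv_mul_mem mN nN e) ((P2.of_four m4).inv.mul (P2.of_four n4) (Commute.inv_left mn))))
  have cm : ∀ z ∈ L, z ∈ 𝐍(L ^ᶜ r) → β m * β z = β z * β m := fun z hz zN =>
    c'.comm mN zN (hm z hz).symm
  have cn : ∀ z ∈ L, z ∈ 𝐍(L ^ᶜ r) → β n * β z = β z * β n := fun z hz zN =>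
    c'.comm nN zN (hn z hz).symm
  have bm4 : β m ^ 4 = 1 := by rw [← c'.pow mN, m4, c'.one]
  have bn4 : β n ^ 4 = 1 := by rw [← c'.pow nN, n4, c'.one]
  have T1 : α (A * A) ≠ 1 := eT ▸ A0.t_ne M.toMX0
  have hT := mul_mem hA hA
  have hV := mul_mem hB hB
  have TN : A * A ∈ 𝐂(L ^ᶜ r) → ∀ z, z * (A * A) * z⁻¹ ∈ 𝐂(L ^ᶜ r) → z ∈ 𝐍(L ^ᶜ r) := fun h z =>
    st.T' r h (P2.of_sq t2) fun e => T1 (e ▸ c.one)
  have fin : A * A ∈ 𝐂(L ^ᶜ r) → Z ∈ 𝐍(L ^ᶜ r) → False := fun h zN => by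
    have k : ∀ z, z * (A * A) = A * A * z → z ∈ 𝐍(L ^ᶜ r) := fun z e =>
      TN h z (by rwa [e, mul_inv_cancel_right])
    have LN := gen _ (k A (mul_assoc _ _ _).symm) (k B bt) (k S st') (k U ut) zN (k Y yt)
    exact st.S r ((c.le_of_normal (A0.simple M.toMX0) (M := L ⊓ 𝐂(L ^ᶜ r)) inf_le_left
      (le_normalizer_inf le_normalizer (le_normalizer_centralizer LN)) ⟨hT, h⟩ T1).trans inf_le_right)
  rcases ea with ea | ea
  · obtain rfl : a' = A * A := A0.inj c hi ha hT (ea.trans eT.symm)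
    have AN := CL A hA (mul_assoc _ _ _).symm
    have BN := CL B hB bt
    have FN := mul_mem (CL S hS st') BN
    have YN := CL Y hY yt
    have VN := mul_mem BN BN
    have WN := mul_mem (mul_mem YN VN) (inv_mem YN)
    by_cases e : β Y * β (B * B) = β (B * B) * β Y
    · have hW : Y * (B * B) * Y⁻¹ * (B * B)⁻¹ ∈ 𝐂(L ^ᶜ r) := (c'.ker _ (mul_mem WN (inv_mem VN))).1 (by
        rw [c'.mul _ WN _ (inv_mem VN), c'.conj YN VN, c'.inv VN, e]; group)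
      have h1 : A * A ∈ 𝐂(L ^ᶜ r) := i1 ▸ mul_mem
        (conj_mem_of_mem_normalizer (normalizer_le_normalizer_centralizer _ AN) hW) (inv_mem hW)
      have h2 : B * B ∈ 𝐂(L ^ᶜ r) := i2 ▸ mul_mem (inv_mem h1)
        (conj_mem_of_mem_normalizer (normalizer_le_normalizer_centralizer _ YN) hW)
      exact fin h1 (TN h1 Z (by rwa [← conj_mul, xa]))
    · refine bne (M.c3 (β Y) (β (S * B)) (β (B * B)) _ _ ?_ (c'.sq FN f2) ?_ (c'.sq VN v2)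
        (c'.comm FN VN fv) ?_ e (cm Y hY YN) (cm _ (mul_mem hS hB) FN) (cm _ hV VN) (cn Y hY YN)
        (cn _ (mul_mem hS hB) FN) (cn _ hV VN) (c'.comm mN nN mn) bm4 bn4 bm bn)
      · rw [← c'.mul _ YN _ YN, ← c'.mul _ (mul_mem YN YN) _ YN, y3, c'.one]
      · rw [← c'.mul _ FN _ YN, ← c'.mul _ (mul_mem FN YN) _ FN, fy, c'.inv YN]
      · rw [← c'.conj YN VN]; exact c'.comm VN WN vy
  · obtain rfl : a' = S := A0.inj c hi ha hS (ea.trans eS.symm)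
    have HN := CL H hH hs
    have TN' := CL _ hT st'.symm
    have ZN := CL Z hZ xs
    have FN := mul_mem (mul_mem TN' (CL U hU us)) ZN
    have hF := mul_mem (mul_mem hT hU) hZ
    by_cases e : β H = 1
    · refine fin ((c'.ker _ TN').1 ?_) ZN
      have h3 : β (A * A) ^ 3 = 1 := by
        rw [← one_mul (β (A * A)), ← e, ← c'.mul _ HN _ TN', ← c'.pow (mul_mem HN TN'), ht, c'.one, e]
      rwa [pow_odd_of_sq (c'.sq TN' t2) (by decide)] at h3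
    · refine bne (M.c5 (β H) (β (A * A * U * Z)) _ _ ?_ e ?_ (cm H hH HN) (cm _ hF FN) (cn H hH HN)
        (cn _ hF FN) (c'.comm mN nN mn) bm4 bn4 bm bn)
      · rw [← c'.pow HN, h5, c'.one]
      · rw [← c'.conj FN HN, fh, c'.mul _ HN _ HN]

end A2

theorem syl_of_bad (M : MX J a b s u x y g h) (st : A.St L) (c : Cov J L α)
    (hi : ∀ l ∈ L, α l = 1 → l = 1) {r k : G} (hb : A.Bad L r k) (hJ : α (r * k * r⁻¹) ∈ J) :
    ∀ t ∈ 𝐂(L), t * t = 1 → t ≠ 1 → IsSylowIn 2 (zpowers t) 𝐂(L) := by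
  obtain ⟨r', hb', j, hj, e1, e2⟩ := A0.bad_norm M st c hb
  have hJ' : α (r' * k * r'⁻¹) ∈ J := e1 ▸ mul_mem (mul_mem hj hJ) (inv_mem hj)
  obtain ⟨a', ha, ea, a2⟩ := c.lifti hJ' (c.sq hb'.sN (cjsq hb'.k2 r'))
  obtain ⟨k1, hk1, es⟩ : ∃ k1 ∈ 𝐂(L), r' * k * r'⁻¹ = a' * k1 :=
    ⟨_, c.inv_mul_mem (le_normalizer ha) hb'.sN ea, by group⟩
  have k12 : k1 * k1 = 1 := by
    have := cjsq hb'.k2 r'
    rwa [es, Commute.mul_mul_mul_comm (hk1 a' ha).symm, a2, one_mul] at this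
  have ea' : α a' = a * a ∨ α a' = s := by
    rw [ea]
    exact e2.imp_right fun e => e.resolve_right fun e => M.gJ (e ▸ hJ')
  exact fun t ht t2 t1 => A.syl2 hb'.kK hb'.k2 hb'.k1 hk1 k12
    (fun m hm n hn => A2.no4 M st c hi hb' ha ea' hk1 es hm hn) ht t2 t1

end H30.CS
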