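import Mathlib
import Cfsg.Agent.Base
import Cfsg.Agent.Lib.Co3S.Defs
import Cfsg.Agent.Lib.Co3S.FD
import Cfsg.Agent.Lib.StdW.A

/-!
# The centraliser of `e` modulo its core (helper22, for helper30's project)
-/

set_option autoImplicit false
set_option maxRecDepth 100000
set_option linter.unusedSectionVars false

namespace H30.CS

open Subgroup H69 Cfsg H70.TM H30.CM H36.SW

universe w

variable {X : Type} [Group X] [Finite X] {J : Subgroup X} {a b s u x y g h : X}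

/-- the centraliser of `e` in the quotient, with its map to the automorphism group -/
structure BF {H : Type*} [Group H] (J : Subgroup X) (e : H) (θ : J →* H) (β : H → X) : Prop where
  ee : e * e = 1
  ne : e ≠ 1
  com : ∀ j, θ j * e = e * θ j
  sec : ∀ j, β (θ j) = j
  be : β e = 1
  mul : ∀ h k, h * e = e * h → k * e = e * k → β (h * k) = β h * β k
  ker : ∀ h, h * e = e * h → β h = 1 → h = 1 ∨ h = e
  nm : ∀ h, h * e = e * h → ∀ j, ∃ j', h * θ j * h⁻¹ = θ j'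

namespace BF

variable {H : Type*} [Group H] [Finite H] {e : H} {θ : J →* H} {β : H → X} (B : BF J e θ β)
include B

theorem inj : Function.Injective θ := fun j k c => Subtype.ext (by rw [← B.sec, ← B.sec, c])

theorem inv {k : H} (hk : k * e = e * k) : β k⁻¹ = (β k)⁻¹ := by
  have h1 : β 1 = 1 := by rw [← θ.map_one, B.sec, coe_one]
  rw [eq_inv_iff_mul_eq_one, ← B.mul _ _ (inv_comm hk) hk, inv_mul_cancel, h1]

theorem act {k : H} (hk : k * e = e * k) {j j' : J} (c : β k * j * (β k)⁻¹ = j') :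
    k * θ j * k⁻¹ = θ j' := by
  obtain ⟨j2, h2⟩ := B.nm k hk j
  have := congrArg β h2
  rw [B.mul _ _ (mul_comm' hk (B.com j)) (inv_comm hk), B.mul _ _ hk (B.com j), B.inv hk, B.sec,
    B.sec, c] at this
  rw [h2, Subtype.ext this]

theorem dec {k : H} (hk : k * e = e * k) (hJ : β k ∈ J) :
    k = θ ⟨_, hJ⟩ ∨ k = θ ⟨_, hJ⟩ * e := by
  have := B.ker ((θ ⟨_, hJ⟩)⁻¹ * k) (mul_comm' (inv_comm (B.com _)) hk) (by
    rw [B.mul _ _ (inv_comm (B.com _)) hk, B.inv (B.com _), B.sec, inv_mul_cancel])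
  exact this.imp (fun c => (inv_mul_eq_one.1 c).symm) fun c => inv_mul_eq_iff_eq_mul.1 c

theorem eL : e ∉ θ.range := by
  rintro ⟨j, c⟩
  have h1 := B.sec j
  rw [c, B.be] at h1
  rw [show j = 1 from Subtype.ext h1.symm, map_one] at c
  exact B.ne c.symm

theorem card_sup (K : Subgroup J) :
    Nat.card (K.map θ ⊔ zpowers e : Subgroup H) = Nat.card K * 2 := by
  rw [card_sup_comm, card_zp B.ee B.ne, card_map_of_injective B.inj]
  · rintro _ ⟨j, -, rfl⟩ z hz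
    rcases (mem_zp B.ee).1 hz with rfl | rfl
    · simp
    · exact B.com j
  · rintro _ ⟨j, -, rfl⟩ hz
    exact ((mem_zp B.ee).1 hz).resolve_right fun c => B.eL ⟨j, c⟩

theorem frame (M : MX0 J a b s u x y g h) (ha : a ∈ J) : ∃ b' s' u' x' y' : H,
    Fr e (θ ⟨a, ha⟩) b' s' u' x' y' ∨ ∃ L' g', Fo L' e (θ ⟨a, ha⟩) b' s' u' x' y' g' := by
  have m : ∀ z ∈ ({a, b, s, u, x, y} : Set X), z ∈ J := fun z hz => M.gen ▸ subset_closure hz
  have hb : b ∈ J := m b (by simp)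
  have hs : s ∈ J := m s (by simp)
  have hu : u ∈ J := m u (by simp)
  have hx : x ∈ J := m x (by simp)
  have hy : y ∈ J := m y (by simp)
  have cJ : Nat.card J = 95040 := (Nat.card_congr M.iso.some.toEquiv).trans H15.card_M12
  have xr : XR (θ ⟨a, ha⟩) (θ ⟨b, hb⟩) (θ ⟨s, hs⟩) (θ ⟨u, hu⟩) (θ ⟨x, hx⟩) := by
    refine ⟨?_, ?_, ?_, ?_, ?_⟩ <;> simp only [← map_mul, ← map_inv]
    · exact θ.map_one ▸ congrArg θ (Subtype.ext M.x3)
    · exact congrArg θ (Subtype.ext M.xa)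
    · exact congrArg θ (Subtype.ext M.xb)
    · exact congrArg θ (Subtype.ext M.xs)
    · exact congrArg θ (Subtype.ext M.ux)
  have r0 : E2.Rel (1 : J) ⟨a, ha⟩ ⟨b, hb⟩ ⟨s, hs⟩ ⟨u, hu⟩ ⟨y, hy⟩ :=
    E2.Rel.of_map J.subtype_injective M.r2
  have r2 : E2.Rel e (θ ⟨a, ha⟩) (θ ⟨b, hb⟩) (θ ⟨s, hs⟩) (θ ⟨u, hu⟩) (θ ⟨y, hy⟩) := by
    obtain ⟨r0, r1, r2, r3, r4, r5, r6, r7, r8, r9, -, -, -, -, -, s0, s1, s2, s3, s4, s5, -⟩ :=
      r0.map θ
    exact ⟨r0, r1, r2, r3, r4, r5, r6, r7, r8, r9, B.ee, (B.com _).symm, (B.com _).symm,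
      (B.com _).symm, (B.com _).symm, s0, s1, s2, s3, s4, s5, B.com _⟩
  let K : Subgroup J := (J ⊓ 𝐂₀(a * a)).subgroupOf J
  have cK : Nat.card K = 192 :=
    (Nat.card_congr (subgroupOfEquivOfLe inf_le_left).toEquiv).trans M.ct
  have mK : ∀ j : J, θ j * (θ ⟨a, ha⟩ * θ ⟨a, ha⟩) = θ ⟨a, ha⟩ * θ ⟨a, ha⟩ * θ j → j ∈ K := by
    intro j c
    simp only [← map_mul] at c
    exact ⟨j.2, mem_c.2 (congrArg Subtype.val (B.inj c))⟩
  have ne : θ ⟨a, ha⟩ * θ ⟨a, ha⟩ ≠ 1 := fun c => by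
    have : K = ⊤ := eq_top_iff.2 fun j _ => mK j (by rw [c]; simp)
    rw [this, card_top, cJ] at cK
    omega
  refine ⟨θ ⟨b, hb⟩, θ ⟨s, hs⟩, θ ⟨u, hu⟩, θ ⟨x, hx⟩, θ ⟨y, hy⟩, ?_⟩
  by_cases hc : ∀ k, k * e = e * k → β k ∈ J
  · refine Or.inl ⟨xr, r2, B.com _, ne, fun k c => ?_, ?_, ?_⟩
    · have hk : k * e = e * k := by rw [← c, mul_assoc]
      refine B.eL ⟨⟨_, hc k hk⟩ * ⟨_, hc k hk⟩, ?_⟩
      rw [map_mul, ← c]
      rcases B.dec hk (hc k hk) with d | d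
      · rw [← d]
      · conv_rhs => rw [d, mul_assoc, ← mul_assoc e, ← B.com, mul_assoc, B.ee, mul_one]
    · have : 𝐂₀(e) = (⊤ : Subgroup J).map θ ⊔ zpowers e := by
        refine le_antisymm (fun k hk => ?_) (sup_le ?_ (zpowers_le.2 (mem_c.2 rfl)))
        · rcases B.dec (mem_c.1 hk) (hc k (mem_c.1 hk)) with d | d <;> rw [d]
          · exact mem_sup_left ⟨_, mem_top _, rfl⟩
          · exact mul_mem_sup ⟨_, mem_top _, rfl⟩ (mem_zpowers e)
        · rintro _ ⟨j, -, rfl⟩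
          exact mem_c.2 (B.com j)
      rw [this, B.card_sup, card_top, cJ]
    · refine (card_le_of_le (K := K.map θ ⊔ zpowers e) ?_).trans (by rw [B.card_sup, cK])
      rintro k ⟨hk, hk2⟩
      have c := mem_c.1 hk2
      rcases B.dec (mem_c.1 hk) (hc k (mem_c.1 hk)) with d | d <;> rw [d] at c ⊢
      · exact mem_sup_left ⟨_, mK _ c, rfl⟩
      · refine mul_mem_sup ⟨_, mK _ ?_, rfl⟩ (mem_zpowers e)
        rw [← mul_left_inj e, mul_assoc _ _ e, mul_comm' (B.com _) (B.com _), ← mul_assoc, c,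
          mul_assoc, mul_assoc, mul_assoc]
  · push Not at hc
    obtain ⟨k, hk, kJ⟩ := hc
    have h1 : g * (β k)⁻¹ ∈ J := (mul_mem_iff_of_index_two M.idx).2
      (iff_of_false M.gJ fun c => kJ (inv_mem_iff.1 c))
    obtain ⟨γ, c1, c2⟩ : ∃ γ, γ * e = e * γ ∧ β γ = g :=
      ⟨θ ⟨_, h1⟩ * k, mul_comm' (B.com _) hk, by
        rw [B.mul _ _ (B.com _) hk, B.sec, inv_mul_cancel_right]⟩
    refine Or.inr ⟨θ.range, γ, xr, ⟨?_, ?_, ?_, ?_, ?_, ?_⟩, r2, ne, ?_, B.eL, ?_, c1, ?_,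
      ⟨?_, ?_⟩, ?_, fun k hk => ?_, ?_, ?_⟩
    · exact B.act c1 (by rw [c2]; exact M.gs)
    · exact B.act c1 (by rw [c2]; exact M.gx)
    · simp only [← map_mul]
      exact B.act c1 (by rw [c2]; exact M.ga)
    · simp only [← map_mul]
      exact B.act c1 (by rw [c2]; exact M.gb)
    · simp only [← map_mul]
      exact B.act c1 (by rw [c2]; exact M.gu)
    · simp only [← map_mul, ← map_inv]
      exact B.act c1 (by rw [c2]; exact M.gy)
    · intro z hz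
      simp only [List.mem_cons, List.not_mem_nil, or_false] at hz
      rcases hz with rfl | rfl | rfl | rfl | rfl | rfl <;> exact ⟨_, rfl⟩
    · rintro _ ⟨j, rfl⟩
      exact B.com j
    · rintro _ ⟨j, rfl⟩
      obtain ⟨j', c⟩ := B.nm γ c1 j
      exact ⟨j', c.symm⟩
    · rintro ⟨j, c⟩
      exact M.gJ (by rw [← c2, ← c, B.sec]; exact j.2)
    · rintro ⟨j, c⟩
      refine M.gJ ?_
      rw [← c2, ← mul_one (β γ), ← B.be, ← B.mul _ _ c1 rfl, ← c, B.sec]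
      exact j.2
    · exact B.ker _ (mul_comm' c1 c1) (by rw [B.mul _ _ c1 c1, c2, M.gg])
    · by_cases kJ : β k ∈ J
      · exact ⟨_, ⟨⟨_, kJ⟩, rfl⟩, (B.dec hk kJ).imp id Or.inl⟩
      · have h2 := mul_comm' hk (inv_comm c1)
        have h3 : β (k * γ⁻¹) ∈ J := by
          rw [B.mul _ _ hk (inv_comm c1), B.inv c1, c2]
          exact (mul_mem_iff_of_index_two M.idx).2 (iff_of_false kJ fun c => M.gJ (inv_mem_iff.1 c))
        refine ⟨_, ⟨⟨_, h3⟩, rfl⟩, Or.inr (Or.inr ((B.dec h2 h3).imp mul_inv_eq_iff_eq_mul.1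
          fun c => ?_))⟩
        rw [mul_assoc, c1, ← mul_assoc]
        exact mul_inv_eq_iff_eq_mul.1 c
    · rw [← Nat.card_congr (MonoidHom.ofInjective B.inj).toEquiv, cJ]
    · refine (card_le_of_le (K := K.map θ) ?_).trans (by rw [card_map_of_injective B.inj, cK])
      rintro _ ⟨⟨j, rfl⟩, hk2⟩
      exact ⟨j, mK j (mem_c.1 hk2), rfl⟩

end BF

theorem exists_gq {G : Type w} [Group G] [Finite G] {L : Subgroup G} {α : G → X}
    (M : MX J a b s u x y g h) (st : A.St L) (c : Cov J L α) (hi : ∀ l ∈ L, α l = 1 → l = 1)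
    (hs : ∀ t ∈ 𝐂(L), t * t = 1 → t ≠ 1 → IsSylowIn 2 (zpowers t) 𝐂(L)) :
    ∃ (H : Type w) (_ : Group H) (_ : Finite H) (e : G) (O N : Subgroup G) (π : N →* H)
      (e' a b s u x y : H), GQ e O N π e' ∧
      (Fr e' a b s u x y ∨ ∃ L' g, Fo L' e' a b s u x y g) ∧
      (Cl e π (e' * (a * a)) → Cj e' (e' * (a * a))) := by
  obtain ⟨e, eK, ee, e1⟩ := st.ev
  obtain ⟨O, h1, h2, h3⟩ := A.exists_O (C := 𝐂(L) ⊓ 𝐂₀(e)) ee
    ((hs e eK ee e1).mono (zpowers_le.2 ⟨eK, mem_c.2 rfl⟩) inf_le_left) fun k hk => mem_c.1 hk.2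
  have CN : ∀ k, k * e = e * k → k ∈ 𝐍(L) := fun k d =>
    st.T k e eK (P2.of_sq ee) e1 (by rwa [d, mul_inv_cancel_right])
  have Le : ∀ l ∈ L, l * e = e * l := fun l hl => eK l hl
  have memO : ∀ k ∈ 𝐂(L), k * e = e * k → Odd (orderOf k) → k ∈ O := fun k hk d o => by
    refine (h3 k ⟨hk, mem_c.2 d⟩).elim id fun h => absurd ?_ e1
    exact (P2.of_sq ee).eq_one (Odd.of_dvd_nat (o.mul (h2 _ h)) (by
      have e0 : e = k⁻¹ * (k * e) := by group
      conv_lhs => rw [e0]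
      rw [← orderOf_inv k]
      exact Commute.orderOf_mul_dvd_mul_orderOf (Commute.inv_left (Commute.mul_right rfl d))))
  have cjO : ∀ k, k * e = e * k → k ∈ 𝐍(O) := fun k d => mem_normalizer_fintype fun o ho =>
    memO _ (conj_mem_of_mem_normalizer (normalizer_le_normalizer_centralizer L (CN k d)) (h1 ho).1)
      (mul_comm' (mul_comm' d (mem_c.1 (h1 ho).2)) (inv_comm d))
      (by rw [H9.orderOf_conj]; exact h2 o ho)
  let π : 𝐍(O) →* 𝐍(O) ⧸ O.subgroupOf 𝐍(O) := QuotientGroup.mk' _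
  have Q : GQ e O 𝐍(O) π (π ⟨e, cjO e rfl⟩) := ⟨ee, e1, rfl, cjO, fun _ => rfl,
    fun o ho => mem_c.1 (h1 ho).2, h2, QuotientGroup.mk'_surjective _,
    fun n => QuotientGroup.eq_one_iff n⟩
  generalize π ⟨e, cjO e rfl⟩ = e' at Q
  -- the lift of `J`
  let f : L →* J := (c.hom.comp (inclusion le_normalizer)).codRestrict J fun l => c.mem l l.2
  have fb : Function.Bijective f := ⟨(injective_iff_map_eq_one f).2 fun l d =>
    Subtype.ext (hi l l.2 (congrArg Subtype.val d)), fun j =>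
      let ⟨l, hl, d⟩ := c.onto j j.2; ⟨⟨l, hl⟩, Subtype.ext d⟩⟩
  let E := MulEquiv.ofBijective f fb
  let lam : J →* G := L.subtype.comp E.symm.toMonoidHom
  have lL : ∀ j, lam j ∈ L := fun j => (E.symm j).2
  have la : ∀ j, α (lam j) = j := fun j => congrArg Subtype.val (E.apply_symm_apply j)
  have ls : ∀ l ∈ L, ∃ j, lam j = l := fun l hl =>
    ⟨E ⟨l, hl⟩, congrArg Subtype.val (E.symm_apply_apply ⟨l, hl⟩)⟩
  let θ : J →* _ := π.comp (lam.codRestrict 𝐍(O) fun j => cjO _ (Le _ (lL j)))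
  have hθ : ∀ j, θ j = π ⟨lam j, cjO _ (Le _ (lL j))⟩ := fun j => rfl
  let β : _ → X := fun z => α (Q.sur z).choose
  have hβ : ∀ n : 𝐍(O), (n : G) * e = e * n → β (π n) = α n := fun n d => by
    have d1 := (Q.sur (π n)).choose_spec
    have d2 : ((n⁻¹ * (Q.sur (π n)).choose : 𝐍(O)) : G) ∈ O :=
      (Q.ker _).1 (by rw [map_mul, map_inv, d1, inv_mul_cancel])
    have := c.mul_cen (CN n d) (h1 d2).1
    rwa [coe_mul, coe_inv, mul_inv_cancel_left] at this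
  have B : BF J e' θ β := by
    refine ⟨Q.ee', (Q.cl_sq ⟨⟨e, Q.eN'⟩, Q.pe _, Cj.refl e⟩).2, fun j => ?_, fun j => ?_, ?_,
      fun z w hz hw => ?_, fun z hz d => ?_, fun z hz j => ?_⟩
    · exact (Q.comm_iff _).2 (Le _ (lL j))
    · rw [hθ, hβ _ (Le _ (lL j)), la]
    · rw [← Q.pe Q.eN', hβ _ rfl, c.cen eK]
    · obtain ⟨n, rfl⟩ := Q.sur z
      obtain ⟨m, rfl⟩ := Q.sur w
      rw [Q.comm_iff] at hz hw
      rw [← map_mul, hβ _ hz, hβ _ hw, hβ (n * m) (mul_comm' hz hw), coe_mul, c.mul _ (CN _ hz) _ (CN _ hw)]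
    · obtain ⟨n, rfl⟩ := Q.sur z
      rw [Q.comm_iff] at hz
      rw [hβ _ hz, c.ker _ (CN _ hz)] at d
      refine (h3 n ⟨d, mem_c.2 hz⟩).imp (Q.ker n).2 fun d => ?_
      have := (Q.ker (n * ⟨e, Q.eN'⟩)).2 d
      rw [map_mul, Q.pe] at this
      rw [← mul_left_inj e', this, Q.ee']
    · obtain ⟨n, rfl⟩ := Q.sur z
      rw [Q.comm_iff] at hz
      obtain ⟨j', d⟩ := ls _ (conj_mem_of_mem_normalizer (CN _ hz) (lL j))
      refine ⟨j', ?_⟩
      rw [hθ, hθ, ← map_inv, ← map_mul, ← map_mul]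
      exact congrArg π (Subtype.ext d.symm)
  have ha : a ∈ J := M.gen ▸ subset_closure (by simp)
  obtain ⟨b', s', u', x', y', F⟩ := B.frame M.toMX0 ha
  refine ⟨_, inferInstance, inferInstance, e, O, _, π, e', _, b', s', u', x', y', Q, F, ?_⟩
  rintro ⟨n, hn, k, hk⟩
  rw [← map_mul] at hn ⊢
  set t : J := ⟨a, ha⟩ * ⟨a, ha⟩ with ht
  have tt : lam t * lam t = 1 := by
    rw [← map_mul, show t * t = 1 from Subtype.ext (by
      have := M.r2.1
      rwa [mul_assoc (a * a)] at this), map_one]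
  have te := Le _ (lL t)
  have et : e * lam t * (e * lam t) = 1 := by
    rw [mul_assoc, ← mul_assoc (lam t), te, mul_assoc, tt, mul_one, ee]
  have nn : (n : G) * n = 1 := Cj.sq ⟨k, hk⟩ ee
  have n1 : (n : G) = e * lam t := by
    let m : 𝐍(O) := ⟨e, Q.eN'⟩ * ⟨lam t, cjO _ te⟩
    have d1 : π m = π n := by rw [hn, map_mul, Q.pe, hθ]
    have d2 : (n : G) * (e * lam t) ∈ O := (Q.ker (n * m)).1 (by
      rw [map_mul, ← d1, ← map_mul, show m * m = 1 from Subtype.ext et, map_one])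
    have d3 := comm_mul (mem_c.1 (h1 d2).2) ((h1 d2).1 _ (lL t)).symm
    have d4 : (n : G) * (e * lam t) = 1 := by
      refine (P2.of_sq ?_).eq_one (h2 _ d2)
      rw [mul_assoc, ← d3, mul_assoc (n : G), et, mul_one, nn]
    rw [← mul_left_inj (e * lam t), d4, et]
  rw [n1] at hk
  have back : ∀ z, z * (e * lam t) = e * lam t * z → k⁻¹ * z * k⁻¹⁻¹ * e = e * (k⁻¹ * z * k⁻¹⁻¹) :=
    fun z d => by have := cj_comm k⁻¹ d; rwa [cj_symm hk] at this
  obtain ⟨T, hT⟩ := Sylow.exists_subgroup_card_pow_prime (G := ↥(J ⊓ 𝐂₀(a * a))) 2 (n := 6)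
    (by rw [M.ct]; norm_num)
  have pT : IsPGroup 2 T := IsPGroup.of_card hT
  let ι : T →* G := lam.comp ((inclusion inf_le_left).comp T.subtype)
  have ic : ∀ z, ι z * (e * lam t) = e * lam t * ι z := fun z =>
    comm_mul (Le _ (lL _)) (by
      show lam _ * lam t = lam t * lam _
      rw [← map_mul, ← map_mul]
      exact congrArg lam (Subtype.ext (mem_c.1 z.1.2.2)))
  let τ : T →* G := (MulAut.conj k⁻¹).toMonoidHom.comp ι
  have tc : ∀ z, τ z * e = e * τ z := fun z => back _ (ic z)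
  let γ : T →* X := c.hom.comp (τ.codRestrict 𝐍(L) fun z => CN _ (tc z))
  have gi : Function.Injective γ := (injective_iff_map_eq_one γ).2 fun z d => by
    have d1 : τ z ∈ 𝐂(L) := (c.ker _ (CN _ (tc z))).1 d
    have d2 : P2 (τ z) := by
      obtain ⟨j, hj⟩ := pT z
      exact ⟨j, by rw [← map_pow, hj, map_one]⟩
    rcases h3 _ ⟨d1, mem_c.2 (tc z)⟩ with d3 | d3
    · have d4 : ι z = 1 := (MulAut.conj k⁻¹).map_eq_one_iff.1 (d2.eq_one (h2 _ d3))
      have d5 := la ((inclusion inf_le_left) z.1)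
      rw [show lam ((inclusion inf_le_left) z.1) = 1 from d4, c.one] at d5
      exact Subtype.ext (Subtype.ext d5.symm)
    · have d4 : τ z = e := by
        rw [← mul_left_inj e, (d2.mul (P2.of_sq ee) (tc z)).eq_one (h2 _ d3), ee]
      have d5 : ι z = e * lam t := (MulAut.conj k⁻¹).injective (d4.trans (cj_symm hk).symm)
      have d6 : e ∈ L := (mul_mem_cancel_right (lL t)).1 (d5 ▸ lL _)
      exact absurd (hi e d6 (c.cen eK)) e1
  have kN : k⁻¹ ∈ 𝐍(O) := mem_normalizer_fintype fun o ho => by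
    have d1 := back o (comm_mul (mem_c.1 (h1 ho).2) ((h1 ho).1 _ (lL t)).symm)
    have d2 : Odd (orderOf (k⁻¹ * o * k⁻¹⁻¹)) := by rw [H9.orderOf_conj]; exact h2 o ho
    refine memO _ ((c.ker _ (CN _ d1)).1 (M.c64 γ.range (pT.of_surjective _
      γ.rangeRestrict_surjective) ?_ _ ?_ ?_)) d1 d2
    · rw [← Nat.card_congr (MonoidHom.ofInjective gi).toEquiv, hT]
      norm_num
    · refine Odd.of_dvd_nat d2 (orderOf_dvd_of_pow_eq_one ?_)
      rw [← c.pow (CN _ d1), pow_orderOf_eq_one, c.one]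
    · rintro _ ⟨z, rfl⟩
      exact c.comm (CN _ (tc z)) (CN _ d1) (cj_comm k⁻¹ ((h1 ho).1 _ (lL _)))
  refine ⟨π ⟨k, inv_mem_iff.1 kN⟩, ?_⟩
  rw [← hn, ← Q.pe Q.eN', ← map_inv, ← map_mul, ← map_mul]
  exact congrArg π (Subtype.ext (hk.trans n1.symm))

end H30.CS
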