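import Mathlib
import Cfsg.Agent.Base
import Cfsg.Agent.Lib.Co3S.Defs
import Cfsg.Agent.Lib.Co3M.End

set_option autoImplicit false
set_option maxRecDepth 100000
set_option linter.unusedSectionVars false

namespace H30.CS

open Subgroup H69 Cfsg H70.TM H30.CM

variable {H : Type*} [Group H] [Finite H] {φ : P.E →* H} {x y : H}

namespace EndA

open H30.CM.End

open P in
theorem zen_S : ∀ k ∈ [1, K36.n, K36.w, K36.n * K36.w], ∀ r : R11.E,
    List.Forall (fun g => (⟨r, k⟩ : E) * g = g * ⟨r, k⟩) [e, a, b, s, p, q, n, w] →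
    (⟨r, k⟩ : E) = 1 ∨ ⟨r, k⟩ = t := by decide +kernel

theorem t_S : P.t ∈ P.S := (by decide +kernel : P.t.k ∈ [1, K36.n, K36.w, K36.n * K36.w])

theorem sylow_top (C : CA φ x y) : IsSylowIn 2 (P.S.map φ) ⊤ := by
  refine isSylowIn_of_normalizer le_top (C.sylow.mono (le_inf le_top le_normalizer) ?_)
  rintro g ⟨-, hN⟩
  have k : ∀ g ∈ 𝐍(P.S.map φ), ∀ z ∈ P.S, ∃ z' ∈ P.S, Act φ g z z' := fun g hg z hz =>
    let ⟨z', h1, h2⟩ := (mem_normalizer_iff.1 hg _).1 ⟨z, hz, rfl⟩; ⟨z', h1, h2.symm⟩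
  obtain ⟨z, hz, gz⟩ := k g hN P.t t_S
  have z3 : ∀ c ∈ [P.e, P.a, P.b, P.s, P.p, P.q, P.n, P.w], z * c = c * z := fun c hc => by
    obtain ⟨c', -, h2⟩ := k _ (inv_mem hN) c (P.gens_S c (List.mem_append_left [P.v] hc))
    have h2 : Act φ g c' c := by simpa only [inv_inv] using h2.symm
    exact act_inj C.inj (gz.mul h2) ((h2.mul gz).of_eq ⟨P.cen_t c', rfl⟩)
  have z4 : z = 1 ∨ z = P.t := zen_S z.k hz z.r (List.forall_iff_forall_mem.2 z3)
  rcases z4 with rfl | rfl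
  · exact absurd (act_inj' C.inj gz (Act.one φ g)) fin.2.2.1
  · exact mem_c.2 gz.fix

end EndA

open H30.CM.End in
open P in
theorem ca_hc (C : CA φ x y) {z : H} (h : z * φ t = φ t * z)
    (hz : z * φ (a * e) * z⁻¹ = φ (a * e) ∨ z * φ (a * e) * z⁻¹ = φ (a * e * t)) : z ∈ φ.range := by
  let y' : 𝐂₀(φ P.t) := ⟨y, mem_c.2 C.yt.fix⟩
  obtain ⟨θ, μ, h1, h2, h3⟩ := sp_hom ((π φ).comp (φ' φ)) (π φ y') ((π_eq C).2 (.inr rfl))
    (by rw [← map_mul, ← map_mul]; exact (π_eq C).2 (.inl C.y3))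
    (by
      show π φ _ * π φ _ * π φ _ = _
      rw [← map_mul, ← map_mul, ← map_inv]; exact congrArg _ (Subtype.ext C.yb))
    (C.yJ.imp fun _ _ h => End.act (m := y') h) (End.act (m := y') C.yf)
    (by
      show (π φ _ * π φ _) ^ 3 = 1
      rw [← map_mul, ← map_pow]; exact (π_eq C).2 C.r1)
    (by
      show (π φ _ * π φ _ * π φ _) ^ 4 = 1
      rw [← map_mul, ← map_mul, ← map_pow]; exact (π_eq C).2 C.r2)
  have hi : Function.Injective θ := by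
    haveI := sp6_simple
    refine (MonoidHom.ker_eq_bot_iff θ).1 ((θ.normal_ker.eq_bot_or_eq_top).resolve_right fun h => ?_)
    exact πv C ((h1 P.v).symm.trans (h.ge (mem_top (μ P.v))))
  have key : ∀ z ∈ (θ.range.comap (π φ)).map (Subgroup.subtype _),
      z * φ (a * e) * z⁻¹ = φ (a * e) ∨ z * φ (a * e) * z⁻¹ = φ (a * e * t) → z ∈ φ.range := by
    rintro _ ⟨z, ⟨Z, hZ⟩, rfl⟩ hz
    have k1 : π φ (z * φ' φ (P.a * P.e) * z⁻¹ * (φ' φ (P.a * P.e))⁻¹) = 1 := by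
      refine (π_eq C).2 (hz.imp (fun h => mul_inv_eq_one.2 h) fun h => mul_inv_eq_of_eq_mul (h.trans ?_))
      rw [P.cen_t, map_mul]; rfl
    have k2 : Z * μ (P.a * P.e) = μ (P.a * P.e) * Z := by
      apply hi
      rw [map_mul, map_mul, map_inv, map_inv, map_mul, mul_inv_eq_one, cj_iff] at k1
      rw [map_mul, map_mul θ, h1, hZ]; exact k1
    have k3 : π φ (z * φ' φ P.v * z⁻¹ * (φ' φ P.v)⁻¹) = 1 := by
      have := congrArg θ (h3 Z k2)
      rw [map_mul, map_mul, h1, hZ] at this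
      rw [map_mul, map_mul, map_inv, map_inv, map_mul, mul_inv_eq_one, cj_iff]; exact this
    rcases (π_eq C).1 k3 with h | h
    · exact C.cv (mem_c.1 z.2) (cj_iff.1 (mul_inv_eq_one.1 h))
    · have k4 : Act φ z P.v (P.t * P.v) := by
        rw [Act, map_mul]; exact eq_mul_of_mul_inv_eq h
      have k5 := C.cv (mem_c.1 (φ' φ P.w * z).2) (k4.trans (Act.of_cj φ End.fin.2.2.2.2.2)).fix
      exact (mul_mem_cancel_left (⟨P.w, rfl⟩ : φ P.w ∈ φ.range)).1 k5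
  have hX : (θ.range.comap (π φ)).map (Subgroup.subtype _) = 𝐂₀(φ P.t) := by
    refine C.fin ?_ ⟨y', h2, rfl⟩ (map_subtype_le _) key
    rintro _ ⟨g, rfl⟩
    exact ⟨φ' φ g, ⟨μ g, h1 g⟩, rfl⟩
  exact key z (hX.ge (mem_c.2 h)) hz

theorem ca_cls (C : CA φ x y) {w : H} (h : w * w = 1) (h1 : w ≠ 1) :
    Cj (φ P.e) w ∨ Cj (φ P.t) w := by
  obtain ⟨g, -, hg⟩ := exists_cj_mem (EndA.sylow_top C) (mem_top w) (k := 1) (by rw [pow_one, sq, h])
  have Hy : Fn.Hy φ x y 𝐂₀(φ P.t) := ⟨C, by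
    rintro _ ⟨z, rfl⟩
    exact mem_c.2 (by rw [← map_mul, P.cen_t, map_mul]), mem_c.2 C.yt.fix, le_rfl⟩
  have c : Cj (g * w * g⁻¹) w := Cj.symm ⟨g, rfl⟩
  by_cases ht : g * w * g⁻¹ = φ P.t
  · exact Or.inr (ht ▸ c)
  rcases Hy.cl1 (Hy.h1 (map_le_range _ _ hg)) (cj_sq g h) (by rwa [Ne, conj_eq_one_iff]) ht with k | k
  · exact Or.inr ((C.xt.cj.trans k.cj.symm).trans c)
  · exact Or.inl (k.cj.symm.trans c)

end H30.CS
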