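import Mathlib
import Cfsg.Agent.Base
import Cfsg.Agent.Lib.Co3S.Defs
import Cfsg.Agent.Lib.Co3M.Fin
import Cfsg.Agent.Lib.Co3S.C2

set_option autoImplicit false
set_option maxRecDepth 100000
set_option linter.unusedSectionVars false

namespace H30.CS

open Subgroup H69 Cfsg H70.TM H30.CM

namespace FnS
open P H30.CM.Fn

variable {G : Type*} [Group G] [Finite G]

/-- the hypotheses -/
structure Hy (φ : E →* G) (y : G) (O X : Subgroup G) : Prop where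
  C : CO φ y O
  h1 : φ.range ≤ X
  h2 : y ∈ X
  hO : O ≤ X
  h3 : X ≤ 𝐂₀(φ t)
  hS : ∀ z ∈ X, z * z * (z * z) = 1 → ∃ k ∈ X, k * z * k⁻¹ ∈ φ.range

namespace Hy
variable {φ : E →* G} {y : G} {O X : Subgroup G} (H : Hy φ y O X)
include H

theorem mem (z : E) : φ z ∈ X := H.h1 ⟨z, rfl⟩

theorem xc {k z z' : E} (h : k * z * k⁻¹ = z') : XC X (φ z) (φ z') :=
  ⟨_, H.mem k, Act.of_cj φ h⟩

theorem mv (c i j : ℕ) {z z' : E}
    (h : evw [e, a, s, u, v, p, f, P.i] 16 c = (el i)⁻¹ * z * (el i)⁻¹⁻¹ ∧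
      evw [e, a * s * u * v, u, s * u, a * s, p * s * u, P.i, P.i * q⁻¹ * p⁻¹ * b * e] 16 c =
        (el j)⁻¹ * z' * (el j)⁻¹⁻¹) : XC X (φ z) (φ z') :=
  ((H.xc rfl).trans ⟨y, H.h2, act_w H.C.yO c h⟩).trans (H.xc rfl).symm

theorem m1 : XC X (φ (s * a)) (φ v) := H.mv 0x325 49 512 (by decide +kernel)
theorem m2 : XC X (φ (w * n)) (φ v) := (H.mv 0x3748 30 6211 (by decide +kernel)).trans H.m1
theorem m3 : XC X (φ n) (φ e) := H.mv 0x178 323 2861 (by decide +kernel)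
theorem m4 : XC X (φ w) (φ e) := H.mv 0x461 49 4401 (by decide +kernel)
theorem m5 : XC X (φ (e * w)) (φ e) := H.mv 0x34 292 7424 (by decide +kernel)
theorem m6 : XC X (φ a) (φ γ) := H.mv 0x256 4352 1536 (by decide +kernel)
theorem m7 : XC X (φ (γ * w)) (φ γ) := H.mv 0x1345 7630 0 (by decide +kernel)
theorem m8 : XC X (φ (p * a * w * n)) (φ γ) :=
  (H.mv 0x3478 16 3679 (by decide +kernel)).trans H.m6
theorem m9 : XC X (φ (a * w)) (φ β) := H.mv 0x124 0 2816 (by decide +kernel)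

theorem tt : φ t * φ t = 1 := by rw [← map_mul, dfs.2.2.2.2.1, map_one]

theorem ct {k : G} (hk : k ∈ X) : k * φ t * k⁻¹ = φ t := cj_iff.2 (mem_c.1 (H.h3 hk))

theorem cl0 {z : G} (hz : z ∈ X) (h : z * z = 1 ∨ z * z = φ t) :
    ∃ r ∈ [1, t, v, e, γ, β], XC X z (φ r) := by
  obtain ⟨k, hk, Z, e1⟩ := H.hS z hz (by
    rcases h with h | h <;> rw [h]
    exacts [mul_one _, H.tt])
  have h0 := cl Z (h.imp (fun h => H.C.inj (by rw [map_mul, e1, cj_sq k h, map_one]))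
    fun h => H.C.inj (by rw [map_mul, e1, conj_mul, h, H.ct hk]))
  have k0 : XC X z (φ (ck Z * Z * (ck Z)⁻¹)) := XC.trans ⟨k, hk, e1.symm⟩ (H.xc rfl)
  generalize ck Z * Z * (ck Z)⁻¹ = r at h0 k0
  simp only [List.mem_cons, List.not_mem_nil, or_false, exists_eq_or_imp, exists_eq_left] at h0 ⊢
  rcases h0 with rfl | rfl | rfl | rfl | rfl | rfl | rfl | rfl | rfl | rfl | rfl | rfl | rfl |
    rfl | rfl
  · tauto
  · tauto
  · tauto
  · tauto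
  · tauto
  · tauto
  · have := k0.trans H.m6; tauto
  · have := k0.trans H.m1; tauto
  · have := k0.trans H.m3; tauto
  · have := k0.trans H.m4; tauto
  · have := k0.trans H.m5; tauto
  · have := k0.trans H.m9; tauto
  · have := k0.trans H.m7; tauto
  · have := k0.trans H.m2; tauto
  · have := k0.trans H.m8; tauto

theorem sq_xc {z z' : G} (h : XC X z z') : (z * z = 1 ↔ z' * z' = 1) ∧ (z = 1 ↔ z' = 1) ∧
    (z = φ t ↔ z' = φ t) := by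
  obtain ⟨k, hk, rfl⟩ := h
  refine ⟨by rw [conj_mul, conj_eq_one_iff], conj_eq_one_iff.symm, fun h => h ▸ H.ct hk,
    fun h => ?_⟩
  rw [← cj_symm h]
  exact H.ct (inv_mem hk)

theorem t1 : φ t ≠ 1 := by
  rw [Ne, map_eq_one_iff φ H.C.inj]; exact dfs.2.2.2.2.2.2.2.2.2.2.2.2.2.2.2.2.2.2

theorem cl1 {z : G} (hz : z ∈ X) (h : z * z = 1) (h1 : z ≠ 1) (h2 : z ≠ φ t) :
    XC X z (φ v) ∨ XC X z (φ e) := by
  obtain ⟨r, hr, k⟩ := H.cl0 hz (Or.inl h)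
  obtain ⟨k1, k2, k3⟩ := H.sq_xc k
  simp only [List.mem_cons, List.not_mem_nil, or_false] at hr
  rcases hr with rfl | rfl | rfl | rfl | rfl | rfl
  · exact absurd (k2.2 (map_one φ)) h1
  · exact absurd (k3.2 rfl) h2
  · exact Or.inl k
  · exact Or.inr k
  · exact absurd (by rw [← dfs.2.2.1, map_mul, k1.1 h]) H.t1
  · exact absurd (by rw [← dfs.2.2.2.1, map_mul, k1.1 h]) H.t1

theorem cl2 {z : G} (hz : z ∈ X) (h : z * z = φ t) : XC X z (φ γ) ∨ XC X z (φ β) := by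
  obtain ⟨r, hr, k⟩ := H.cl0 hz (Or.inr h)
  have k1 : r * r ≠ 1 := fun c => H.t1 (h ▸ (H.sq_xc k).1.2 (by rw [← map_mul, c, map_one]))
  simp only [List.mem_cons, List.not_mem_nil, or_false] at hr
  rcases hr with rfl | rfl | rfl | rfl | rfl | rfl
  · exact absurd (mul_one _) k1
  · exact absurd dfs.2.2.2.2.1 k1
  · exact absurd dfs.2.2.2.2.2.1 k1
  · exact absurd dfs.2.2.2.2.2.2.1 k1
  · exact Or.inl k
  · exact Or.inr k

theorem memV {g : G} (h1 : g * φ t = φ t * g) (h2 : g * φ v = φ v * g) : g ∈ X := by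
  obtain ⟨z, o, ho, rfl⟩ := H.C.cv h1 h2
  exact mul_mem (H.mem z) (H.hO ho)

theorem memE {g : G} (h1 : g * φ t = φ t * g) (h2 : g * φ e = φ e * g) : g ∈ X := by
  obtain ⟨χ, -, k1, k2, k3, k4, k5, k6, k⟩ := H.C.m2
  obtain ⟨z, o, ho, rfl⟩ := k g h2 h1
  have : X.comap χ = ⊤ := E2.eq_top (mem_comap.2 (k1 ▸ H.mem _)) (mem_comap.2 (k2 ▸ H.mem _))
    (mem_comap.2 (k3 ▸ H.mem _)) (mem_comap.2 (k4 ▸ H.mem _)) (mem_comap.2 (k5 ▸ H.mem _))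
    (mem_comap.2 (k6 ▸ H.h2))
  exact mul_mem (mem_comap.1 (this ▸ mem_top z)) (H.hO ho)

/-- (A) -/
theorem memA {g z : G} (hg : g * φ t = φ t * g) (hz : z ∈ X) (h : z * z = 1) (h1 : z ≠ 1)
    (h2 : z ≠ φ t) (h3 : g * z * g⁻¹ ∈ X) : g ∈ X := by
  have k := H.cl1 h3 (cj_sq g h) (by rwa [Ne, conj_eq_one_iff]) fun c => h2 (by
    rw [← cj_symm c]; exact cj_iff.2 (inv_comm hg))
  have fin : ∀ {r : G}, XC X z r → XC X (g * z * g⁻¹) r →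
      (∀ m, m * φ t = φ t * m → m * r = r * m → m ∈ X) → g ∈ X := by
    rintro r ⟨k, hk, e1⟩ ⟨k', hk', e2⟩ hr
    have := hr (k' * (g * k⁻¹)) (mul_comm' (mem_c.1 (H.h3 hk')) (mul_comm' hg
      (inv_comm (mem_c.1 (H.h3 hk))))) (cj_iff.1 (cj_trans (cj_trans (cj_symm e1) rfl) e2))
    exact (mul_mem_cancel_right (inv_mem hk)).1 ((mul_mem_cancel_left hk').1 this)
  rcases H.cl1 hz h h1 h2 with c | c <;> rcases k with d | d
  · exact fin c d fun m => H.memV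
  · exact absurd (d.cj.symm.trans ((Cj.symm ⟨g, rfl⟩).trans c.cj)) H.C.not_cj.2
  · exact absurd (c.cj.symm.trans (Cj.trans ⟨g, rfl⟩ d.cj)) H.C.not_cj.2
  · exact fin c d fun m => H.memE

theorem cj_t {z : G} (hz : z ∈ X) (h : z * z = 1) (h1 : z ≠ 1) (h2 : z ≠ φ t) :
    Cj z (z * φ t) := by
  have fin : ∀ {r k : E}, XC X z (φ r) → k * r * k⁻¹ = r * t → Cj z (z * φ t) := by
    rintro r k ⟨m, hm, e1⟩ e2
    refine (Cj.trans ⟨m, e1⟩ (H.xc e2).cj).trans (Cj.symm ⟨m, ?_⟩)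
    rw [← conj_mul, e1, H.ct hm, map_mul]
  exact (H.cl1 hz h h1 h2).elim (fun c => fin c dfs.2.2.2.2.2.2.2.2.2.2.2.2.2.2.1)
    fun c => fin c dfs.2.2.2.2.2.2.2.2.2.2.2.2.2.2.2.2.1

end Hy

namespace Hy
variable {φ : E →* G} {y : G} {O X : Subgroup G} (H : Hy φ y O X) {g : G}
  (hg : g * φ t = φ t * g) (hn : g ∉ X)
include H hg hn

theorem noinv {z : G} (hz : z ∈ MM X g) (h : z * z = 1) : z = 1 ∨ z = φ t := by
  by_contra c
  push Not at c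
  exact hn (inv_mem_iff.1 (H.memA (inv_comm hg) hz.1 h c.1 c.2 (mem_MM.1 hz).2))

/-- (D) -/
theorem dd {m x' y' : G} (hm : m ∈ MM X g) (hx : x' ∈ X) (x2 : x' * x' = 1) (x1 : x' ≠ 1)
    (xt : x' ≠ φ t) (hy : y' ∈ X) (y2 : y' * y' = 1) (y1 : y' ≠ 1) (yt : y' ≠ φ t)
    (nc : ¬ Cj x' y') (ym : g * y' * g⁻¹ * m = m * (g * y' * g⁻¹))
    (xm : x' * m * x'⁻¹ = m ∨ x' * m * x'⁻¹ = m * φ t) :
    ∃ z ∈ MM X g, (z * m * z⁻¹ = m ∨ z * m * z⁻¹ = m * φ t) ∧ z ∉ zpowers m ∧ z * z ∈ zpowers m ∧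
      z * x' * (z * x') = 1 := by
  have hN : zpowers m ≤ MM X g := zpowers_le.2 hm
  have y2' := cj_sq g y2
  rcases dih x2 y2' (zpowers m) with ⟨w, -, -, h⟩ | ⟨z, hK, z1, z2, z3, z4, ⟨k, -, z5⟩, -⟩
  · exfalso
    obtain ⟨j, hj⟩ := h
    have c : Commute (m ^ j) (g * y' * g⁻¹) := Commute.zpow_left ym.symm j
    have e1 : w * x' * w⁻¹ = m ^ j * (g * y' * g⁻¹) := by
      rw [show m ^ j = _ from hj, mul_assoc _ (g * y' * g⁻¹), y2', mul_one]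
    have e2 := cj_sq w x2
    rw [e1, c.symm.mul_mul_mul_comm, y2', mul_one] at e2
    rcases H.noinv hg hn (hN ⟨j, rfl⟩) e2 with c | c
    · rw [show m ^ j = 1 from c, one_mul] at e1
      exact nc (Cj.trans ⟨w, e1⟩ (Cj.symm ⟨g, rfl⟩))
    · rw [show m ^ j = φ t from c] at e1
      refine nc (Cj.trans ⟨w, e1⟩ (Cj.symm ((H.cj_t hy y2 y1 yt).trans ⟨g, ?_⟩)))
      rw [mem_c.1 (H.h3 hy), ← conj_mul, cj_iff.2 hg]
  · let K : Subgroup G :=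
      { carrier := {k | k * φ t * k⁻¹ = φ t ∧ (k * m * k⁻¹ = m ∨ k * m * k⁻¹ = m * φ t)}
        one_mem' := by simp
        mul_mem' := by
          rintro k l ⟨a, a'⟩ ⟨b, b'⟩
          refine ⟨cj_trans b a, ?_⟩
          rcases b' with b' | b'
          · exact a'.imp (cj_trans b') (cj_trans b')
          · refine a'.symm.imp (fun c => cj_trans b' ?_) fun c => cj_trans b' ?_
            · rw [← conj_mul, c, a, mul_assoc, H.tt, mul_one]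
            · rw [← conj_mul, c, a]
        inv_mem' := by
          rintro k ⟨a, a'⟩
          refine ⟨cj_symm a, a'.imp cj_symm fun c => cj_symm ?_⟩
          rw [← conj_mul, c, a, mul_assoc, H.tt, mul_one] }
    obtain ⟨zt, zm⟩ := hK K ⟨H.ct hx, xm⟩ ⟨cj_iff.2 (mul_comm' (mul_comm' hg (mem_c.1 (H.h3 hy)))
      (inv_comm hg)), Or.inl (cj_iff.2 ym)⟩
    refine ⟨z, ⟨H.memA (cj_iff.1 zt) hx x2 x1 xt (z3 ▸ mul_mem (hN z2).1 hx), ?_⟩, zm, z1, z2, ?_⟩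
    · refine H.memA (mul_comm' (mul_comm' (inv_comm hg) (cj_iff.1 zt)) (inv_comm (inv_comm hg)))
        hy y2 y1 yt ?_
      have := mul_mem (mem_MM.1 (hN z2)).2 hy
      rw [show g⁻¹ * (z * z) * g⁻¹⁻¹ * y' = g⁻¹ * (z * z * (g * y' * g⁻¹)) * g by group,
        ← z4] at this
      convert this using 1
      simp [mul_assoc]
    · rcases z5 with c | c <;> rw [c]
      exacts [cj_sq k x2, cj_sq k y2']

theorem nbad {z : E} (hz : φ z ∈ MM X g) : ¬ Bad z := fun c =>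
  (H.noinv hg hn hz (by rw [← map_mul, c.1, map_one])).elim
    (fun d => c.2.1 (H.C.inj (d.trans (map_one φ).symm))) fun d => c.2.2 (H.C.inj d)

theorem adm {m z : E} (m2 : m * m = t) (hm : φ m ∈ MM X g) (hz : φ z ∈ MM X g)
    (h1 : φ z * φ m * (φ z)⁻¹ = φ m ∨ φ z * φ m * (φ z)⁻¹ = φ m * φ t)
    (h2 : φ z ∉ zpowers (φ m)) (h3 : φ z * φ z ∈ zpowers (φ m)) : Adm m z := by
  have tm : t ∈ zpowers m := m2 ▸ mul_mem (mem_zpowers m) (mem_zpowers m)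
  have h2' : z ∉ zpowers m := fun ⟨k, c⟩ => h2 ⟨k, by rw [← c]; exact (map_zpow φ m k).symm⟩
  have nb : ∀ r ∈ zpowers m, φ (z * r) ∈ MM X g → z * r * (z * r) ≠ 1 := fun r hr hM c =>
    H.nbad hg hn hM ⟨c, fun d => h2' ((mul_mem_cancel_right hr).1 (d ▸ one_mem _)),
      fun d => h2' ((mul_mem_cancel_right hr).1 (d ▸ tm))⟩
  refine ⟨h1.imp (act_map H.C.inj) fun c => act_map H.C.inj (c.trans (map_mul _ _ _).symm), ?_,
    fun c => h2' (c ▸ mem_zpowers _), fun c => h2' (c ▸ mul_mem (mem_zpowers _) tm),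
    nb m (mem_zpowers m) (map_mul φ z m ▸ mul_mem hz hm)⟩
  obtain ⟨k, c⟩ := h3
  have c' : m ^ k = z * z := H.C.inj (by rw [map_zpow, map_mul]; exact c)
  have m4 : m ^ (4 : ℤ) = 1 := by
    rw [show (4 : ℤ) = 2 + 2 from rfl, zpow_add, zpow_two, m2, dfs.2.2.2.2.1]
  rw [zpow_eq_zpow_emod k m4] at c'
  have := nb 1 (one_mem _) (by rwa [mul_one])
  rw [mul_one, ← c'] at this
  rw [← c', ← m2]
  have k1 := Int.emod_nonneg k (show (4 : ℤ) ≠ 0 by decide)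
  have k2 := Int.emod_lt_of_pos k (show (0 : ℤ) < 4 by decide)
  generalize k % 4 = j at *
  simp only [List.mem_cons]
  interval_cases j
  · exact absurd (zpow_zero m) this
  · exact Or.inr (Or.inl (zpow_one m))
  · exact Or.inl (zpow_two m)
  · exact Or.inr (Or.inr (Or.inl (by rw [show (3 : ℤ) = 1 + 2 from rfl, zpow_add, zpow_two, zpow_one])))

end Hy

namespace Hy
variable {φ : E →* G} {y : G} {O X : Subgroup G} (H : Hy φ y O X)
include H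

theorem yd {g m : G} (hg : g * φ t = φ t * g) (hm : m ∈ MM X g) (m2 : m * m = φ t) :
    Yd φ X g m (φ v) ∧ Yd φ X g m (φ e) := by
  obtain ⟨-, -, -, -, -, -, -, d1, -, -, d2, d3, d4, d5, -, -, -, d6, -⟩ := dfs
  have fin : ∀ {r r' z : E}, XC X (g⁻¹ * m * g⁻¹⁻¹) (φ r) → z * r = r * z → Cj (φ r') (φ z) →
      φ z ≠ φ t → Yd φ X g m (φ r') := by
    rintro r r' z ⟨k, hk, e1⟩ e2 e3 e4
    refine ⟨k⁻¹ * φ z * k⁻¹⁻¹, mul_mem (mul_mem (inv_mem hk) (H.mem z)) (inv_mem (inv_mem hk)),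
      e3.cj _, fun c => e4 ?_, ?_⟩
    · rw [← H.ct hk, ← c]; group
    · have := cj_comm g (cj_comm k⁻¹ (show φ z * φ r = φ r * φ z by rw [← map_mul, e2, map_mul]))
      rwa [cj_symm e1, show g * (g⁻¹ * m * g⁻¹⁻¹) * g⁻¹ = m by group] at this
  have es : Cj (φ e) (φ s) := (H.xc d6).cj.symm
  rcases H.cl2 (mem_MM.1 hm).2 (by rw [conj_mul, m2, cj_iff.2 (inv_comm hg)]) with c | c
  · exact ⟨fin c d2 (Cj.refl _) (H.C.inj.ne d1),
      fin c d4 (Cj.refl _) fun d => H.C.not_cj.1 (d ▸ Cj.refl _)⟩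
  · exact ⟨fin c d3 (Cj.refl _) (H.C.inj.ne d1), fin c d5 es fun d => H.C.not_cj.1 (d ▸ es)⟩

theorem vv : φ v * φ v = 1 ∧ φ v ≠ 1 ∧ φ v ≠ φ t ∧ φ e * φ e = 1 ∧ φ e ≠ 1 := by
  obtain ⟨-, -, -, -, -, d1, d2, d3, d4, d5, -⟩ := dfs
  simp only [← map_mul, d1, d2, map_one, Ne, map_eq_one_iff φ H.C.inj, H.C.inj.eq_iff, d3, d4, d5,
    not_false_eq_true, and_self]

/-- (D) with the involution `v` -/
theorem dv {g : G} (hg : g * φ t = φ t * g) (hn : g ∉ X) {m : G} (hm : m ∈ MM X g)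
    (h : Yd φ X g m (φ e)) (c : φ v * m = m * φ v) :
    ∃ z ∈ MM X g, (z * m * z⁻¹ = m ∨ z * m * z⁻¹ = m * φ t) ∧ z ∉ zpowers m ∧ z * z ∈ zpowers m ∧
      z * φ v * (z * φ v) = 1 := by
  obtain ⟨y', h1, h2, h3, h4⟩ := h
  obtain ⟨v1, v2, v3, v4, v5⟩ := H.vv
  exact H.dd hg hn hm (H.mem v) v1 v2 v3 h1 (h2.sq v4) (h2.ne v5) h3
    (fun d => H.C.not_cj.2 (h2.trans d.symm)) h4 (Or.inl (cj_iff.2 c))

theorem p8 {z : G} (h : z * z ∈ zpowers (φ γ)) : z ^ 2 ^ 3 = 1 := by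
  obtain ⟨k, c⟩ := h
  have c : φ γ ^ k = z * z := c
  have g4 : φ γ ^ 4 = 1 := by
    rw [show 4 = 2 + 2 from rfl, pow_add, pow_two, ← map_mul, dfs.2.2.1, H.tt]
  rw [show 2 ^ 3 = 2 * 4 from rfl, pow_mul, pow_two, ← c, ← zpow_natCast, ← zpow_mul, mul_comm,
    zpow_mul, zpow_natCast, g4, one_zpow]

variable (hc : ∀ z ∈ X, z ^ 2 ^ 3 = 1 →
  z * φ γ * z⁻¹ = φ γ ∨ z * φ γ * z⁻¹ = φ γ * φ t → z ∈ φ.range)
include hc

/-- (B) -/
theorem bb {g : G} (hg : g * φ t = φ t * g) (h : g⁻¹ * φ γ * g⁻¹⁻¹ ∈ X) : g ∈ X := by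
  by_contra hn
  have hm : φ γ ∈ MM X g := ⟨H.mem _, h⟩
  obtain ⟨⟨y', k1, k2, k3, k4⟩, ye⟩ := H.yd hg hm (by rw [← map_mul, dfs.2.2.1])
  obtain ⟨z, z0, z1, z2, z3, z4⟩ := H.dv hg hn hm ye (by
    rw [← map_mul, dfs.2.2.2.2.2.2.2.2.2.2.1, map_mul])
  obtain ⟨z, rfl⟩ := hc z z0.1 (H.p8 z3) z1
  obtain ⟨k, hk, h2⟩ := two _ (adm_mem z (H.adm hg hn dfs.2.2.1 hm z0 z1 z2 z3)) (by
    rw [el_idx]; exact H.C.inj (by simpa only [map_mul, map_one] using z4))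
  obtain ⟨⟨x2, x1, xt⟩, xm, xe⟩ := xL_ok k hk
  have xe' : Cj (φ (el k)) (φ e) := xe.elim (fun c => (H.xc c).cj) fun c => ((H.xc c).trans H.m3).cj
  obtain ⟨z', w0, w1, w2, w3, w4⟩ := H.dd hg hn hm (H.mem (el k)) (by rw [← map_mul, x2, map_one])
    (by rwa [Ne, map_eq_one_iff φ H.C.inj]) (H.C.inj.ne xt) k1 (k2.sq H.vv.1) (k2.ne H.vv.2.1) k3
    (fun d => H.C.not_cj.2 ((xe'.symm.trans d).trans k2.symm)) k4
    (xm.imp (Act.of_cj φ) fun c => (Act.of_cj φ c).eq.trans (map_mul _ _ _))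
  obtain ⟨z', rfl⟩ := hc z' w0.1 (H.p8 w3) w1
  have h3 := h2 _ (adm_mem z' (H.adm hg hn dfs.2.2.1 hm w0 w1 w2 w3)) (by
    rw [el_idx]; exact H.C.inj (by simpa only [map_mul, map_one] using w4))
  rw [el_idx, el_idx] at h3
  have m1 : φ (z * z') ∈ MM X g := map_mul φ z z' ▸ mul_mem z0 w0
  have m2 : φ (z * z' * (z * z')) ∈ MM X g := map_mul φ _ _ ▸ mul_mem m1 m1
  rcases h3 with c | c | c | c
  · exact H.nbad hg hn m1 c
  · exact H.nbad hg hn (map_mul φ _ γ ▸ mul_mem m1 hm) c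
  · exact H.nbad hg hn (map_mul φ _ γ ▸ mul_mem m2 hm) c
  · exact H.nbad hg hn m2 c

theorem bb' {g m : G} (hg : g * φ t = φ t * g) (hm : m ∈ MM X g) (h : XC X m (φ γ)) : g ∈ X := by
  obtain ⟨k, hk, e1⟩ := h
  refine (mul_mem_cancel_left hk).1 (H.bb hc (mul_comm' (mem_c.1 (H.h3 hk)) hg) ?_)
  convert (mem_MM.1 hm).2 using 1
  rw [← e1]; group

/-- (C) -/
theorem cc {g : G} (hg : g * φ t = φ t * g) (h : g⁻¹ * φ β * g⁻¹⁻¹ ∈ X) : g ∈ X := by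
  by_contra hn
  have hm : φ β ∈ MM X g := ⟨H.mem _, h⟩
  have vb : φ v * φ β = φ β * φ v := by rw [← map_mul, dfs.2.2.2.2.2.2.2.2.2.2.2.1, map_mul]
  have b2 : φ β * φ β = φ t := by rw [← map_mul, dfs.2.2.2.1]
  obtain ⟨z, z0, z1, z2, z3, z4⟩ := H.dv hg hn hm (H.yd hg hm b2).2 vb
  have e1 : z * φ v * z⁻¹ = φ v * (z * z)⁻¹ := by
    rw [eq_inv_of_mul_eq_one_left z4, mul_inv_rev, inv_eq_of_mul_eq_one_left H.vv.1]; group
  have e2 : z * z = φ t := by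
    have c : Commute (φ v) (z * z) := by
      obtain ⟨k, c⟩ := z3
      rw [← c]
      exact Commute.zpow_right vb k
    have e3 := cj_sq z H.vv.1
    rw [e1, c.inv_right.symm.mul_mul_mul_comm, H.vv.1, one_mul, ← mul_inv_rev, inv_eq_one] at e3
    refine (H.noinv hg hn (mul_mem z0 z0) e3).resolve_left fun d => z2 ?_
    rcases H.noinv hg hn z0 d with rfl | rfl
    exacts [one_mem _, b2 ▸ mul_mem (mem_zpowers _) (mem_zpowers _)]
  rw [e2, inv_eq_of_mul_eq_one_left H.tt, ← map_mul] at e1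
  obtain ⟨z, rfl⟩ : z ∈ φ.range := by
    obtain ⟨Z, o, ho, e4⟩ := H.C.cv
      (mul_comm' (mem_c.1 (H.h3 (H.mem w))) (mem_c.1 (H.h3 z0.1)))
      (cj_iff.1 (cj_trans e1 (Act.of_cj φ dfs.2.2.2.2.2.2.2.2.2.2.2.2.2.2.2.1)))
    have e5 : z = φ (w⁻¹ * Z) * o := by rw [map_mul, map_inv, mul_assoc, ← e4, inv_mul_cancel_left]
    have e6 : o = 1 := H.C.two ho (z := w⁻¹ * Z) (k := 2) (by
      rw [← e5, show 2 ^ 2 = 2 + 2 from rfl, pow_add, pow_two, e2, H.tt])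
    exact ⟨_, by rw [e5, e6, mul_one]⟩
  rcases bet z (H.C.inj (by rw [map_mul, e2])) (H.C.inj (by simpa only [map_mul, map_one] using z4))
    (H.adm hg hn dfs.2.2.2.1 hm z0 z1 z2 z3) with c | c
  · exact hn (H.bb' hc hg z0 ((H.xc c).trans H.m7))
  · exact hn (H.bb' hc hg (map_mul φ z β ▸ mul_mem z0 hm) ((H.xc c).trans H.m7))

/-- (F) -/
theorem ff {g : G} (hg : g * φ t = φ t * g) : g ∈ X := by
  by_contra hn
  have hm : φ t ∈ MM X g := mem_MM.2 ⟨H.mem _, (cj_iff.2 (inv_comm hg)).symm ▸ H.mem t⟩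
  obtain ⟨z, z0, -, z2, ⟨k, z3⟩, -⟩ := H.dv hg hn hm ⟨φ e, H.mem e, Cj.refl _,
    fun d => H.C.not_cj.1 (d ▸ Cj.refl _), mul_comm' (mul_comm' hg (mem_c.1 (H.h3 (H.mem e))))
      (inv_comm hg)⟩ (mem_c.1 (H.h3 (H.mem v)))
  have e3 : z * z * (z * z) = 1 := by
    rw [← z3, ← (Commute.refl (φ t)).mul_zpow, H.tt, one_zpow]
  have e2 : z * z = φ t := by
    refine (H.noinv hg hn (mul_mem z0 z0) e3).resolve_left fun d => z2 ?_
    rcases H.noinv hg hn z0 d with rfl | rfl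
    exacts [one_mem _, mem_zpowers _]
  rcases H.cl2 z0.1 e2 with c | ⟨k, hk, e1⟩
  · exact hn (H.bb' hc hg z0 c)
  · refine hn ((mul_mem_cancel_left hk).1 (H.cc hc (mul_comm' (mem_c.1 (H.h3 hk)) hg) ?_))
    convert (mem_MM.1 z0).2 using 1
    rw [← e1]; group

end Hy

end FnS

open P in
theorem CO.fin {G : Type*} [Group G] [Finite G] {φ : E →* G} {y : G} {O : Subgroup G}
    (C : CO φ y O) {X : Subgroup G} (h1 : φ.range ≤ X) (h2 : y ∈ X) (hO : O ≤ X)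
    (h3 : X ≤ 𝐂₀(φ t)) (hS : ∀ z ∈ X, z * z * (z * z) = 1 → ∃ k ∈ X, k * z * k⁻¹ ∈ φ.range)
    (hc : ∀ z ∈ X, z ^ 2 ^ 3 = 1 →
      z * φ (a * e) * z⁻¹ = φ (a * e) ∨ z * φ (a * e) * z⁻¹ = φ (a * e * t) → z ∈ φ.range) :
    X = 𝐂₀(φ t) :=
  le_antisymm h3 fun _ hg => FnS.Hy.ff ⟨C, h1, h2, hO, h3, hS⟩
    (by simpa only [Fn.dfs.1, map_mul] using hc) (mem_c.1 hg)

end H30.CS
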