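import Mathlib
import Cfsg.Agent.Base
import Cfsg.Agent.Lib.Co3S.Defs
import Cfsg.Agent.Lib.Co3S.Fin
import Cfsg.Agent.Lib.Co3S.EndA
import Cfsg.Agent.Lib.Co3S.Sec

/-!
# Standard subgroups of type `M₁₂`: the core of the centraliser is trivial (helper21)
-/

set_option autoImplicit false
set_option maxRecDepth 100000
set_option linter.unusedSectionVars false

namespace H30.CS

open Subgroup H69 Cfsg H70.TM H30.CM

namespace EndB

variable {G H : Type*} [Group G] [Finite G] [Group H] [Finite H] {e : G} {O N : Subgroup G}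
  {π : N →* H} {φ : P.E →* H} {x y : H}

/-- a section of the projection which centralises the kernel -/
structure Sc (O N : Subgroup G) (π : N →* H) (ι : H →* G) : Prop where
  mem : ∀ h, ι h ∈ N
  pi : ∀ h, π ⟨ι h, mem h⟩ = h
  cO : ∀ h, ∀ o ∈ O, o * ι h = ι h * o

variable {ι : H →* G} {e' : H} (Q : GQ e O N π e') (S : Sc O N π ι)
include Q S

theorem inj : Function.Injective ι := fun a b h => by
  rw [← S.pi a, ← S.pi b]; exact congrArg π (Subtype.ext h)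

theorem dec {n : G} (hn : n ∈ N) : ∃ o ∈ O, n = ι (π ⟨n, hn⟩) * o :=
  ⟨_, (Q.ker ((⟨_, S.mem (π ⟨n, hn⟩)⟩ : N)⁻¹ * ⟨n, hn⟩)).1 (by
    rw [map_mul, map_inv, S.pi, inv_mul_cancel]), (mul_inv_cancel_left _ _).symm⟩

theorem two {n : G} (hn : n ∈ N) {k : ℕ} (h : n ^ 2 ^ k = 1) : ι (π ⟨n, hn⟩) = n := by
  obtain ⟨o, ho, d⟩ := dec Q S hn
  have h1 : π ⟨n, hn⟩ ^ 2 ^ k = 1 := by
    rw [← map_pow, show (⟨n, hn⟩ : N) ^ 2 ^ k = 1 from Subtype.ext h, map_one]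
  have h2 : o ^ 2 ^ k = 1 := by
    rwa [d, Commute.mul_pow (S.cO _ o ho).symm, ← map_pow, h1, map_one, one_mul] at h
  have h3 : o = 1 := orderOf_eq_one_iff.1 (Nat.Coprime.eq_one_of_dvd
    ((Nat.coprime_two_right.2 (Q.odd o ho)).pow_right k) (orderOf_dvd_of_pow_eq_one h2))
  rw [h3, mul_one] at d
  exact d.symm

theorem ie : ι e' = e := by
  rw [← Q.pe (Q.eN e rfl)]
  exact two Q S _ (k := 1) (by rw [pow_one, sq, Q.ee])

omit Q in
theorem comm {g : G} (hg : g ∈ N) {w : H} (h : g * ι w = ι w * g) : π ⟨g, hg⟩ * w = w * π ⟨g, hg⟩ := by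
  have := congrArg π (show (⟨g, hg⟩ : N) * ⟨_, S.mem w⟩ = ⟨_, S.mem w⟩ * ⟨g, hg⟩ from Subtype.ext h)
  rwa [map_mul, map_mul, S.pi] at this

end EndB

namespace EndB

variable {G H : Type*} [Group G] [Finite G] [Group H] [Finite H] {e : G} {O N : Subgroup G}
  {π : N →* H} {φ : P.E →* H} {x y : H} {ι : H →* G}
  (Q : GQ e O N π (φ P.e)) (S : Sc O N π ι) (C : CA φ x y)
include Q S C

theorem co : CO (ι.comp φ) (ι y) O where
  inj := (inj Q S).comp C.inj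
  yO := C.yO.imp fun _ _ h => by
    have := congrArg ι h
    rwa [map_mul, map_mul, map_inv] at this
  cO o ho z := S.cO _ o ho
  cy o ho := S.cO _ o ho
  odd := Q.odd
  nsq g h := by
    have h1 : g * g = e := (show g * g = ι (φ P.e) from h).trans (ie Q S)
    have hg := Q.eN g (by rw [← h1, mul_assoc])
    refine C.fr.nsq (π ⟨g, hg⟩) ?_
    rw [← map_mul, ← Q.pe (Q.eN e rfl)]
    exact congrArg π (Subtype.ext h1)
  m2 := by
    obtain ⟨χ, i, k1, k2, k3, k4, k5, k6, k⟩ := C.fr.mod2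
    refine ⟨ι.comp χ, (inj Q S).comp i, congrArg ι k1, congrArg ι k2, congrArg ι k3, congrArg ι k4,
      congrArg ι k5, congrArg ι k6, fun g h1 h2 => ?_⟩
    have hg := Q.eN g (ie Q S ▸ h1)
    obtain ⟨w, hw⟩ := k _ (comm S hg h1) (by
      rw [← map_mul, ← P.defs.1]; exact comm S hg h2)
    obtain ⟨o, ho, d⟩ := dec Q S hg
    exact ⟨w, o, ho, by rwa [← hw] at d⟩

theorem ct : 𝐂₀(ι (φ P.t)) ≤ N := by
  have K := co Q S C
  refine (K.fin (X := N ⊓ 𝐂₀(ι (φ P.t))) ?_ ⟨S.mem _, mem_c.2 ?_⟩ (fun o ho => ⟨?_, mem_c.2 (S.cO _ o ho)⟩)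
    inf_le_right (fun z hz h => ?_) fun z hz h h' => ?_).ge.trans inf_le_left
  · rintro _ ⟨g, rfl⟩
    exact ⟨S.mem _, mem_c.2 (by
      change ι (φ g) * _ = _ * ι (φ g)
      rw [← map_mul, ← map_mul, P.cen_t, map_mul, map_mul])⟩
  · rw [← map_mul, C.yt.fix, map_mul]
  · exact Q.hN ▸ le_normalizer ho
  · have h4 : z ^ 2 ^ 2 = 1 := by rwa [show 2 ^ 2 = 2 + 2 from rfl, pow_add, pow_two]
    have d := two Q S hz.1 h4
    obtain ⟨g, hg, w, -, hw⟩ := exists_cj_mem C.sylow (mem_c.2 (comm S hz.1 (mem_c.1 hz.2))) (k := 2)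
      (inj Q S (by rw [map_pow, d, h4, map_one]))
    refine ⟨ι g, ⟨S.mem _, mem_c.2 (by rw [← map_mul, mem_c.1 hg, map_mul])⟩, w, ?_⟩
    rw [MonoidHom.comp_apply, hw, map_mul, map_mul, map_inv, d]
  · have d := two Q S hz.1 h
    obtain ⟨w, hw⟩ := ca_hc C (comm S hz.1 (mem_c.1 hz.2)) (h'.imp
      (fun c => inj Q S (by rw [map_mul, map_mul, map_inv, d]; exact c))
      fun c => inj Q S (by rw [map_mul, map_mul, map_inv, d]; exact c))
    exact ⟨w, by rw [MonoidHom.comp_apply, hw, d]⟩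

theorem cent {z : G} (hz : z ∈ N) (z2 : z * z = 1) (z1 : z ≠ 1) {g : G} (h : g * z = z * g) :
    g ∈ N := by
  have d := two Q S hz (k := 1) (by rw [pow_one, sq, z2])
  have k : ∀ w, 𝐂₀(ι w) ≤ N → Cj w (π ⟨z, hz⟩) → g ∈ N := by
    rintro w hw ⟨r, hr⟩
    have h1 : (ι r)⁻¹ * g * ι r ∈ N := hw (mem_c.2 (by
      have := cj_comm (ι r)⁻¹ h
      rwa [← d, ← hr, map_mul, map_mul, map_inv, cj_symm rfl, inv_inv] at this))
    rwa [mul_mem_cancel_right (S.mem r), mul_mem_cancel_left (inv_mem (S.mem r))] at h1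
  refine (ca_cls C (inj Q S (by rw [map_mul, d, z2, map_one])) fun c => z1 ?_).elim
    (k _ fun g hg => Q.eN g (ie Q S ▸ mem_c.1 hg)) (k _ (ct Q S C))
  rw [← d, c, map_one]

theorem cj_mem (k : G) : k * ι (φ P.t) * k⁻¹ ∈ N := by
  have t2 : k * ι (φ P.t) * k⁻¹ * (k * ι (φ P.t) * k⁻¹) = 1 :=
    cj_sq k (by rw [← map_mul, ← map_mul, End.fin.2.2.2.1, map_one, map_one])
  rcases dih Q.ee t2 ⊥ with ⟨w, -, -, h⟩ | ⟨z, -, z1, z2, h1, h2, -⟩
  · refine absurd ?_ (co Q S C).not_cj.1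
    have h1 := (eq_inv_of_mul_eq_one_left (mem_bot.1 h)).trans (inv_eq_of_mul_eq_one_right t2)
    rw [← ie Q S] at h1
    exact Cj.trans ⟨w, h1⟩ (Cj.symm ⟨k, rfl⟩)
  · rw [mem_bot] at z1 z2
    rw [z2, one_mul, cj_iff] at h1 h2
    exact cent Q S C (Q.eN z h1) z2 z1 h2.symm

end EndB

open EndB in
theorem GQ.co3 {G H : Type*} [Group G] [Finite G] [Group H] [Finite H] [IsSimpleGroup G] {e : G}
    {O N : Subgroup G} {π : N →* H} {φ : P.E →* H} {x y : H} (Q : GQ e O N π (φ P.e))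
    (C : CA φ x y) : Spor.IsoCo3 G := by
  obtain ⟨σ, h1, h2⟩ := Q.sec C.co3
  have S : Sc O N π (N.subtype.comp σ) := ⟨fun h => (σ h).2, h1, h2⟩
  generalize N.subtype.comp σ = ι at S
  have hN : N = ⊤ := by
    rcases (normalClosure_normal (s := {ι (φ P.t)})).eq_bot_or_eq_top with d | d
    · exact absurd (C.inj ((inj Q S ((mem_bot.1 (d.le (subset_normalClosure rfl))).trans
        (map_one ι).symm)).trans (map_one φ).symm)) End.fin.2.2.1
    · refine eq_top_iff.2 (d.ge.trans ((closure_le _).2 fun g hg => ?_))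
      obtain ⟨_, rfl, hc⟩ := Group.mem_conjugatesOfSet_iff.1 hg
      obtain ⟨k, rfl⟩ := isConj_iff.1 hc
      exact EndB.cj_mem Q S C k
  have hO : O = ⊥ := (normalizer_eq_top_iff.1 (Q.hN ▸ hN)).eq_bot_or_eq_top.resolve_right fun d => by
    have := Q.odd e (d.ge (mem_top e))
    rw [orderOf_eq_prime (p := 2) (by rw [sq, Q.ee]) Q.ne] at this
    exact absurd this (by decide)
  obtain ⟨θ⟩ := C.co3
  refine ⟨(MulEquiv.ofBijective ι ⟨inj Q S, fun g => ?_⟩).symm.trans θ⟩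
  obtain ⟨o, ho, d⟩ := dec Q S (hN.ge (mem_top g))
  rw [mem_bot.1 (hO.le ho), mul_one] at d
  exact ⟨_, d.symm⟩

end H30.CS
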