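import Mathlib
import Cfsg.Agent.Base
import Cfsg.Agent.Lib.M12C.Tab
import Cfsg.Agent.Lib.Co3S.TS00
import Cfsg.Agent.Lib.Co3S.B00
import Cfsg.Agent.Lib.Co3S.KL
import Cfsg.Agent.Lib.Co3S.TK16

/-! a group of order 8192 (helper30; generated) -/

set_option autoImplicit false
set_option maxRecDepth 100000

namespace H30.CM.Z3E
open H54 (Tr force band)
open H18.TC
noncomputable def T_0 : Tr := (.node (nat_lit 0) (.leaf (nat_lit 0x3480007651d5456557b54cf137c54e155854614f851e149850e145853614b84fe14184ee13d804280002df4bbd3870c7c57557f536e4dd930e4c592fe4c1933e4d1932e4cd935e4d9934e4d59042800038f8e7e465d2f7625985640e905a3be8f1a3ae8eda3de8f9a3ce8f5a3fe901a3ee8fda0348000435d09724787fe19f46bd22ec8db226c87b1eec7db1dec79b216c83b1cec75b1bec71b042800024fc97f3264df94e613582cf0b5c27f0a1c26f09dc29f0a9c28f0a5c2bf0b1c2af0adc03b80002f64b9910fc47f1b6c69b18f465d13f451d12f44dd15f459d17f461d14f455d16f45dd03480003a68e5a206c8fb07fc23f0ff841e0f783be0cf835e0bf831e0e7837e0af82de09f829e0000000267095c127445d097821e077c1bf067c17f057c13f047c0ff037c0bf027c07f017c03f))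 (.leaf (nat_lit 0x42800088ce273934a332954651191c24908bc23108ac22d08ec23d08dc239090c24508fc241003480009ed6775a05267493c25309cc67519c466f198c665197c66119b466b196c65d195c6591034800087da1b68d424b07dd1fb485ca192854a13282ca0d281ca092844a0f280ca0527fca01203800008a422507359a76745dab7724dc736d4db336c4daf36f4dbb3714dc336e4db73704dbf3042800074e1d789a467f17f49f927cd1f5477d1e1476d1dd479d1e9478d1e547bd1f147ad1ed403800009e467d15f6157860655b95e55775595563558555f55b556b55d557355a556755c556f50348000874a2126a4dcb360e987a68d9a5668599f665d999664d995667599b663d991662d98d6042800041ed0bb4c6917a6b4dcf34add2d744dd15743dd11747dd21746dd1d749dd29748dd257)))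
noncomputable def J_0 : Tr := (.node (nat_lit 0) (.leaf (nat_lit 0xc0040020010000000002001000000400000000080040000010000002002001000000c0000020010000002000001000000400000080000040000010000001001000800000200000000080000010000008000002000000400000200000080000000000000000002800800400200000000040020000008000000001000800000200000040040020000008000000002000000400000200000080000010000008000002000000000000080080040000000018000004000001800000600000100000060000018000000000000000000500100080040000000008004000001000000000200100000040000000000000000000000000000103600040b800102600040780010160004038001006)) (.leaf (nat_lit 0x400400200000180000000020000004000002000000800000100000080000020000000002002000000a00200100080000000010008000002000000000400200000080000000010010000003001000800400000000080040000010000000002001000000400000000000000010010000008000001000000800000100000040000020000004000001000400400200000100000000020000004000002000000800000100000080000020000000000000000400400000200000040000020000004000001000000800000100000040000000000000003001000800400000000080040000010000000002001000000400000080080040000030000008004000000800000400000100000020000010000004000)))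
noncomputable def F_0 : Tr := (.node (nat_lit 9) (.node (nat_lit 4) (.node (nat_lit 1) (.node (nat_lit 0) (.leaf (nat_lit 0xfedcba9876543210)) (.leaf (nat_lit 0xfedcba9876543210))) (.node (nat_lit 2) (.leaf (nat_lit 0xfedcba9876543210)) (.node (nat_lit 3) (.leaf (nat_lit 0xfedcba9876543210)) (.leaf (nat_lit 0xfedcba9876543210))))) (.node (nat_lit 6) (.node (nat_lit 5) (.leaf (nat_lit 0xfedcba9876543210)) (.leaf (nat_lit 0xfedcba9876543210))) (.node (nat_lit 7) (.leaf (nat_lit 0xfedcba9876543210)) (.node (nat_lit 8) (.leaf (nat_lit 0xfedcba9876543210)) (.leaf (nat_lit 0xfedcba9876543210)))))) (.node (nat_lit 14) (.node (nat_lit 11) (.node (nat_lit 10) (.leaf (nat_lit 0xfedcba9876543210)) (.leaf (nat_lit 0xfedcba9876543210))) (.node (nat_lit 12) (.leaf (nat_lit 0xfedcba9876543210)) (.node (nat_lit 13) (.leaf (nat_lit 0xfedcba9876543210)) (.leaf (nat_lit 0xefb8d65c3a927401))))) (.node (nat_lit 16) (.node (nat_lit 15) (.leaf (nat_lit 0xefb8d65c3a927401))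 (.leaf (nat_lit 0xdbf9e7c5a3816042))) (.node (nat_lit 17) (.leaf (nat_lit 0xdbf9e7c5a3816042)) (.node (nat_lit 18) (.leaf (nat_lit 0xca9f7ed4b2180653)) (.leaf (nat_lit 0xca9f7ed4b2180653)))))))
noncomputable def T : Tr := T_0
noncomputable def J : Tr := J_0
noncomputable def F : Tr := F_0
noncomputable def row (u : ℕ) : ℕ := Nat.land (Nat.shiftRight (force (Nat.shiftRight u (nat_lit 3)) T.get) (Nat.mul (Nat.land u (nat_lit 7)) (nat_lit 308))) (nat_lit 0xfffffffffffffffffffffffffffffffffffffffffffffffffffffffffffffffffffffffffffff)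
noncomputable def jrow (u : ℕ) : ℕ := Nat.land (Nat.shiftRight (force (Nat.shiftRight u (nat_lit 3)) J.get) (Nat.mul (Nat.land u (nat_lit 7)) (nat_lit 273))) (nat_lit 0x1ffffffffffffffffffffffffffffffffffffffffffffffffffffffffffffffffffff)
noncomputable def fget (k fx : ℕ) : ℕ := F.get (Nat.add k fx)
noncomputable def wt0 : LT := (.node (nat_lit 0) (.leaf 77 2 [nat_lit 224, nat_lit 0, nat_lit 84, nat_lit 28, nat_lit 238])
(.leaf 0 0 []))
noncomputable def wt1 : LT := (.node (nat_lit 0) (.leaf 59 0 [nat_lit 210, nat_lit 14, nat_lit 196])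
(.node (nat_lit 1) (.leaf 91 4 [nat_lit 84, nat_lit 56, nat_lit 266, nat_lit 14, nat_lit 252])
(.node (nat_lit 2) (.leaf 77 4 [nat_lit 84, nat_lit 28, nat_lit 238, nat_lit 14, nat_lit 224])
(.leaf 0 0 []))))
noncomputable def wt2 : LT := (.node (nat_lit 0) (.leaf 79 2 [nat_lit 224, nat_lit 28, nat_lit 112, nat_lit 238])
(.leaf 0 0 []))
noncomputable def wt3 : LT := (.node (nat_lit 0) (.leaf 61 0 [nat_lit 210, nat_lit 42, nat_lit 196])
(.node (nat_lit 1) (.leaf 93 4 [nat_lit 56, nat_lit 56, nat_lit 112, nat_lit 266, nat_lit 42, nat_lit 252])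
(.node (nat_lit 2) (.leaf 79 4 [nat_lit 112, nat_lit 238, nat_lit 42, nat_lit 224])
(.leaf 0 0 []))))
noncomputable def wt4 : LT := (.node (nat_lit 0) (.leaf 63 4 [nat_lit 42, nat_lit 210, nat_lit 70, nat_lit 196])
(.node (nat_lit 1) (.leaf 81 2 [nat_lit 224, nat_lit 28, nat_lit 28, nat_lit 56, nat_lit 140, nat_lit 238])
(.leaf 0 0 [])))
noncomputable def wt5 : LT := (.node (nat_lit 0) (.leaf 95 4 [nat_lit 140, nat_lit 266, nat_lit 70, nat_lit 252])
(.node (nat_lit 1) (.leaf 81 6 [nat_lit 140, nat_lit 238, nat_lit 70, nat_lit 224, nat_lit 28, nat_lit 28])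
(.leaf 0 0 [])))
noncomputable def wt6 : LT := (.node (nat_lit 0) (.leaf 83 2 [nat_lit 224, nat_lit 84, nat_lit 112, nat_lit 238])
(.leaf 0 0 []))
noncomputable def wt7 : LT := (.node (nat_lit 0) (.leaf 65 0 [nat_lit 210, nat_lit 98, nat_lit 196])
(.node (nat_lit 1) (.leaf 97 4 [nat_lit 140, nat_lit 266, nat_lit 98, nat_lit 252])
(.node (nat_lit 2) (.leaf 83 4 [nat_lit 112, nat_lit 238, nat_lit 98, nat_lit 224])
(.leaf 0 0 []))))
noncomputable def wt8 : LT := (.node (nat_lit 0) (.leaf 85 2 [nat_lit 224, nat_lit 112, nat_lit 238])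
(.leaf 0 0 []))
noncomputable def wt9 : LT := (.node (nat_lit 0) (.leaf 67 0 [nat_lit 210, nat_lit 126, nat_lit 196])
(.node (nat_lit 1) (.leaf 99 0 [nat_lit 266, nat_lit 126, nat_lit 252])
(.node (nat_lit 2) (.leaf 85 0 [nat_lit 238, nat_lit 126, nat_lit 224])
(.leaf 0 0 []))))
noncomputable def wt10 : LT := (.node (nat_lit 0) (.leaf 69 0 [nat_lit 210, nat_lit 154, nat_lit 196, nat_lit 126])
(.node (nat_lit 1) (.leaf 87 2 [nat_lit 224, nat_lit 140, nat_lit 238])
(.leaf 0 0 [])))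
noncomputable def wt11 : LT := (.node (nat_lit 0) (.leaf 101 0 [nat_lit 266, nat_lit 154, nat_lit 252])
(.node (nat_lit 1) (.leaf 87 0 [nat_lit 238, nat_lit 154, nat_lit 224])
(.leaf 0 0 [])))
noncomputable def wt12 : LT := (.node (nat_lit 0) (.leaf 89 2 [nat_lit 224, nat_lit 28, nat_lit 28, nat_lit 140, nat_lit 168, nat_lit 238])
(.leaf 0 0 []))
noncomputable def wt13 : LT := (.node (nat_lit 0) (.leaf 71 0 [nat_lit 210, nat_lit 182, nat_lit 196, nat_lit 84])
(.node (nat_lit 1) (.leaf 103 0 [nat_lit 266, nat_lit 182, nat_lit 252, nat_lit 0, nat_lit 140, nat_lit 0, nat_lit 112])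
(.node (nat_lit 2) (.leaf 89 0 [nat_lit 238, nat_lit 182, nat_lit 224, nat_lit 28, nat_lit 28, nat_lit 140])
(.leaf 0 0 []))))
noncomputable def wt14 : LT := (.node (nat_lit 0) (.leaf 57 0 [nat_lit 210])
(.node (nat_lit 1) (.leaf 75 2 [nat_lit 224, nat_lit 196, nat_lit 238])
(.leaf 0 0 [])))
noncomputable def wt15 : LT := (.leaf 0 0 [])
noncomputable def wt16 : LT := (.node (nat_lit 0) (.leaf 73 0 [nat_lit 238])
(.node (nat_lit 1) (.leaf 75 1 [nat_lit 210, nat_lit 224, nat_lit 196])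
(.node (nat_lit 2) (.leaf 107 3 [nat_lit 266, nat_lit 238, nat_lit 266])
(.leaf 0 0 []))))
noncomputable def wt17 : LT := (.leaf 0 0 [])
noncomputable def wt18 : LT := (.node (nat_lit 0) (.leaf 105 0 [nat_lit 266])
(.node (nat_lit 1) (.leaf 109 7 [nat_lit 210, nat_lit 252, nat_lit 210, nat_lit 266, nat_lit 210, nat_lit 252, nat_lit 210])
(.leaf 0 0 [])))
noncomputable def wt19 : LT := (.node (nat_lit 0) (.leaf 109 5 [nat_lit 210, nat_lit 266, nat_lit 210, nat_lit 252, nat_lit 210, nat_lit 266, nat_lit 210])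
(.leaf 0 0 []))
noncomputable def wt20 : LT := (.leaf 0 0 [])
noncomputable def sl : List (ℕ × ℕ × List ℕ × List ℕ) := [(0, nat_lit 0, [], []),
(2, nat_lit 28, [], []),
(4, nat_lit 56, [], []),
(6, nat_lit 84, [], []),
(8, nat_lit 112, [], []),
(10, nat_lit 140, [], []),
(12, nat_lit 168, [], [])]
/-- the inverse column -/
noncomputable def icol (x : ℕ) : ℕ := List.getD [nat_lit 1, nat_lit 0, nat_lit 3, nat_lit 2, nat_lit 5, nat_lit 4, nat_lit 7, nat_lit 6, nat_lit 9, nat_lit 8, nat_lit 11, nat_lit 10, nat_lit 13, nat_lit 12, nat_lit 15, nat_lit 14, nat_lit 17, nat_lit 16, nat_lit 19, nat_lit 18] x x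
noncomputable def inv (x : ℕ) : ℕ := Nat.mul (icol (Nat.div x (nat_lit 14))) (nat_lit 14)
def cols : List ℕ := [nat_lit 280, nat_lit 0, nat_lit 14, nat_lit 28, nat_lit 42, nat_lit 56, nat_lit 70, nat_lit 84, nat_lit 98, nat_lit 112, nat_lit 126, nat_lit 140, nat_lit 154, nat_lit 168, nat_lit 182, nat_lit 196, nat_lit 210, nat_lit 224, nat_lit 238, nat_lit 252, nat_lit 266]
noncomputable def cl : CL := (.cons (nat_lit 0) (nat_lit 14) (nat_lit 0) (nat_lit 0) wt0
(.cons (nat_lit 14) (nat_lit 0) (nat_lit 13) (nat_lit 1) wt1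
(.cons (nat_lit 28) (nat_lit 42) (nat_lit 26) (nat_lit 2) wt2
(.cons (nat_lit 42) (nat_lit 28) (nat_lit 39) (nat_lit 3) wt3
(.cons (nat_lit 56) (nat_lit 70) (nat_lit 52) (nat_lit 4) wt4
(.cons (nat_lit 70) (nat_lit 56) (nat_lit 65) (nat_lit 5) wt5
(.cons (nat_lit 84) (nat_lit 98) (nat_lit 78) (nat_lit 6) wt6
(.cons (nat_lit 98) (nat_lit 84) (nat_lit 91) (nat_lit 7) wt7
(.cons (nat_lit 112) (nat_lit 126) (nat_lit 104) (nat_lit 8) wt8
(.cons (nat_lit 126) (nat_lit 112) (nat_lit 117) (nat_lit 9) wt9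
(.cons (nat_lit 140) (nat_lit 154) (nat_lit 130) (nat_lit 10) wt10
(.cons (nat_lit 154) (nat_lit 140) (nat_lit 143) (nat_lit 11) wt11
(.cons (nat_lit 168) (nat_lit 182) (nat_lit 156) (nat_lit 12) wt12
(.cons (nat_lit 182) (nat_lit 168) (nat_lit 169) (nat_lit 13) wt13
(.cons (nat_lit 196) (nat_lit 210) (nat_lit 182) (nat_lit 14) wt14
(.cons (nat_lit 210) (nat_lit 196) (nat_lit 195) (nat_lit 15) wt15
(.cons (nat_lit 224) (nat_lit 238) (nat_lit 208) (nat_lit 16) wt16
(.cons (nat_lit 238) (nat_lit 224) (nat_lit 221) (nat_lit 17) wt17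
(.cons (nat_lit 252) (nat_lit 266) (nat_lit 234) (nat_lit 18) wt18
(.cons (nat_lit 266) (nat_lit 252) (nat_lit 247) (nat_lit 19) wt19
.nil))))))))))))))))))))
def rels : List (List ℕ) := [[2, 2, 2, 2],
[4, 4, 4, 4],
[5, 3, 4, 2],
[6, 6],
[2, 6, 2, 6],
[4, 6, 4, 6],
[0, 0],
[3, 1, 2, 0],
[5, 1, 4, 0],
[7, 1, 6, 0],
[1, 3, 3, 9, 0, 8],
[7, 9, 6, 8],
[3, 9, 2, 8],
[5, 9, 4, 8],
[8, 8],
[1, 5, 5, 11, 0, 10],
[7, 11, 6, 10],
[3, 11, 2, 10],
[5, 11, 4, 10],
[10, 10],
[11, 9, 10, 8],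
[12, 12],
[1, 13, 0, 12],
[7, 13, 6, 12],
[3, 5, 5, 12, 2, 12],
[5, 3, 3, 5, 5, 12, 4, 12],
[9, 13, 8, 12],
[11, 13, 10, 12],
[14, 14],
[1, 15, 0, 14],
[3, 15, 2, 14],
[2, 4, 15, 4, 14],
[7, 15, 6, 14],
[9, 15, 8, 14],
[10, 8, 15, 10, 14],
[13, 7, 15, 12, 14],
[16, 16],
[15, 17, 14, 16],
[3, 7, 1, 17, 0, 16],
[9, 3, 17, 2, 16],
[11, 5, 3, 3, 17, 4, 16],
[9, 7, 17, 6, 16],
[9, 17, 8, 16],
[11, 17, 10, 16],
[13, 11, 3, 3, 17, 12, 16],
[5, 7, 1, 19, 0, 18],
[9, 5, 5, 3, 19, 2, 18],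
[11, 5, 19, 4, 18],
[11, 7, 19, 6, 18],
[9, 19, 8, 18],
[11, 19, 10, 18],
[13, 9, 1, 11, 1, 19, 12, 18],
[18, 18],
[18, 16, 18, 16],
[14, 18, 14, 19, 14, 18, 14, 19]]
def subs : List (List ℕ) := [[0],
[2],
[4],
[6],
[8],
[10],
[12]]
noncomputable def chk : ℕ → Bool := rowChk row jrow fget sl cols (nat_lit 16) (nat_lit 16) (nat_lit 16383) (nat_lit 31) (nat_lit 16384) (nat_lit 280) (nat_lit 294) (nat_lit 8191) (nat_lit 6) (nat_lit 63) (nat_lit 4) (nat_lit 15) cl (nat_lit 260) wt20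
theorem p0 : allB chk 4 0 = true := by decide +kernel
theorem all_chk : AllLt chk 16 := by
  have h := AllLt.zero chk
  have h := h.step 16 p0 (by decide +kernel)
  exact h
/-- column `x` of the final table -/
noncomputable def tab (x u : ℕ) : ℕ := ft fget (nat_lit 6) (nat_lit 63) (nat_lit 4) (nat_lit 15) (Nat.mul x (nat_lit 1)) u
theorem enum {G Ω : Type*} [Group G] [MulAction G Ω] (g : ℕ → G) (ω : Ω)
    (hinv : ∀ x, g (icol x) = (g x)⁻¹) (h1 : g 20 = 1)
    (hrels : ∀ R ∈ rels, ev g R = 1) (hsubs : ∀ S ∈ subs, ev g S • ω = ω) :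
    ∃ pt : ℕ → Ω, pt 0 = ω ∧ (∀ K : Subgroup G, (∀ x, g x ∈ K) → ∀ v, ∃ k ∈ K, pt v = k • ω) ∧
      ∀ x, x < 20 → ∀ u, u < 16 → tab x u < 16 ∧ g x • pt u = pt (tab x u) :=
  sound_scaled g ω row jrow fget sl inv icol cols (nat_lit 16) (nat_lit 16) (nat_lit 16383) (nat_lit 31) (nat_lit 16384) (nat_lit 280) (nat_lit 294) (nat_lit 8191) (nat_lit 6) (nat_lit 63) (nat_lit 4) (nat_lit 15) 5 cl (nat_lit 260) wt20 rels subs 14 (nat_lit 1) 20
    (fun _ => Nat.mul_div_cancel _ (by decide)) hinv h1 hrels hsubs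
    (by decide +kernel) (by decide +kernel) all_chk
end H30.CM.Z3E

namespace H30.CM.Z3
open H70.TM H18.TC Subgroup

/-- the relations -/
def Rel {G : Type*} [Group G] (e a b s p q g u i z : G) : Prop :=
  S00.Rel e a b s p q g ∧
  u * u = 1 ∧
  u * e * u⁻¹ = e ∧
  u * a * u⁻¹ = a ∧
  u * b * u⁻¹ = a⁻¹ * b⁻¹ ∧
  u * s * u⁻¹ = s ∧
  u * p * u⁻¹ = p ∧
  u * q * u⁻¹ = q⁻¹ * p⁻¹ ∧
  u * g * u⁻¹ = g * s ∧
  i * i = 1 ∧
  i * u = u * i ∧
  i * e * i⁻¹ = a * s * e ∧
  i * a * i⁻¹ = p * a ∧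
  i * b * i⁻¹ = q * b * a * a ∧
  i * s * i⁻¹ = p * s ∧
  i * p * i⁻¹ = p ∧
  i * q * i⁻¹ = q ∧
  i * g * i⁻¹ = g * q * a * a ∧
  z * e * z⁻¹ = b * s * e ∧
  z * a * z⁻¹ = p * b * b * a ∧
  z * b * z⁻¹ = q * b ∧
  z * s * z⁻¹ = q * s ∧
  z * p * z⁻¹ = p ∧
  z * q * z⁻¹ = q ∧
  z * g * z⁻¹ = g * p * e * q * e ∧
  z * z = 1 ∧
  i * z * (i * z) = 1 ∧
  z⁻¹ * u * z * u * (z⁻¹ * u * z * u) = 1

instance {G : Type*} [Group G] [DecidableEq G] (e a b s p q g u i z : G) : Decidable (Rel e a b s p q g u i z) := by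
  unfold Rel; infer_instance

theorem Rel.map {G G' : Type*} [Group G] [Group G'] (f : G →* G') {e a b s p q g u i z : G}
    (h : Rel e a b s p q g u i z) : Rel (f e) (f a) (f b) (f s) (f p) (f q) (f g) (f u) (f i) (f z) := by
  obtain ⟨⟨h0, h1, h2, h3, h4, h5, h6, h7, h8, h9, h10, h11, h12, h13, h14, h15, h16, h17, h18, h19, h20, h21, h22, h23, h24, h25, h26, h27⟩, h28, h29, h30, h31, h32, h33, h34, h35, h36, h37, h38, h39, h40, h41, h42, h43, h44, h45, h46, h47, h48, h49, h50, h51, h52, h53, h54⟩ := h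
  exact ⟨⟨by simpa only [map_mul, map_inv, map_one] using congrArg f h0,
    by simpa only [map_mul, map_inv, map_one] using congrArg f h1,
    by simpa only [map_mul, map_inv, map_one] using congrArg f h2,
    by simpa only [map_mul, map_inv, map_one] using congrArg f h3,
    by simpa only [map_mul, map_inv, map_one] using congrArg f h4,
    by simpa only [map_mul, map_inv, map_one] using congrArg f h5,
    by simpa only [map_mul, map_inv, map_one] using congrArg f h6,
    by simpa only [map_mul, map_inv, map_one] using congrArg f h7,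
    by simpa only [map_mul, map_inv, map_one] using congrArg f h8,
    by simpa only [map_mul, map_inv, map_one] using congrArg f h9,
    by simpa only [map_mul, map_inv, map_one] using congrArg f h10,
    by simpa only [map_mul, map_inv, map_one] using congrArg f h11,
    by simpa only [map_mul, map_inv, map_one] using congrArg f h12,
    by simpa only [map_mul, map_inv, map_one] using congrArg f h13,
    by simpa only [map_mul, map_inv, map_one] using congrArg f h14,
    by simpa only [map_mul, map_inv, map_one] using congrArg f h15,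
    by simpa only [map_mul, map_inv, map_one] using congrArg f h16,
    by simpa only [map_mul, map_inv, map_one] using congrArg f h17,
    by simpa only [map_mul, map_inv, map_one] using congrArg f h18,
    by simpa only [map_mul, map_inv, map_one] using congrArg f h19,
    by simpa only [map_mul, map_inv, map_one] using congrArg f h20,
    by simpa only [map_mul, map_inv, map_one] using congrArg f h21,
    by simpa only [map_mul, map_inv, map_one] using congrArg f h22,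
    by simpa only [map_mul, map_inv, map_one] using congrArg f h23,
    by simpa only [map_mul, map_inv, map_one] using congrArg f h24,
    by simpa only [map_mul, map_inv, map_one] using congrArg f h25,
    by simpa only [map_mul, map_inv, map_one] using congrArg f h26,
    by simpa only [map_mul, map_inv, map_one] using congrArg f h27⟩,
    by simpa only [map_mul, map_inv, map_one] using congrArg f h28,
    by simpa only [map_mul, map_inv, map_one] using congrArg f h29,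
    by simpa only [map_mul, map_inv, map_one] using congrArg f h30,
    by simpa only [map_mul, map_inv, map_one] using congrArg f h31,
    by simpa only [map_mul, map_inv, map_one] using congrArg f h32,
    by simpa only [map_mul, map_inv, map_one] using congrArg f h33,
    by simpa only [map_mul, map_inv, map_one] using congrArg f h34,
    by simpa only [map_mul, map_inv, map_one] using congrArg f h35,
    by simpa only [map_mul, map_inv, map_one] using congrArg f h36,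
    by simpa only [map_mul, map_inv, map_one] using congrArg f h37,
    by simpa only [map_mul, map_inv, map_one] using congrArg f h38,
    by simpa only [map_mul, map_inv, map_one] using congrArg f h39,
    by simpa only [map_mul, map_inv, map_one] using congrArg f h40,
    by simpa only [map_mul, map_inv, map_one] using congrArg f h41,
    by simpa only [map_mul, map_inv, map_one] using congrArg f h42,
    by simpa only [map_mul, map_inv, map_one] using congrArg f h43,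
    by simpa only [map_mul, map_inv, map_one] using congrArg f h44,
    by simpa only [map_mul, map_inv, map_one] using congrArg f h45,
    by simpa only [map_mul, map_inv, map_one] using congrArg f h46,
    by simpa only [map_mul, map_inv, map_one] using congrArg f h47,
    by simpa only [map_mul, map_inv, map_one] using congrArg f h48,
    by simpa only [map_mul, map_inv, map_one] using congrArg f h49,
    by simpa only [map_mul, map_inv, map_one] using congrArg f h50,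
    by simpa only [map_mul, map_inv, map_one] using congrArg f h51,
    by simpa only [map_mul, map_inv, map_one] using congrArg f h52,
    by simpa only [map_mul, map_inv, map_one] using congrArg f h53,
    by simpa only [map_mul, map_inv, map_one] using congrArg f h54⟩

theorem Rel.of_map {G G' : Type*} [Group G] [Group G'] {f : G →* G'} (hf : Function.Injective f)
    {e a b s p q g u i z : G} (h : Rel (f e) (f a) (f b) (f s) (f p) (f q) (f g) (f u) (f i) (f z)) : Rel e a b s p q g u i z := by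
  obtain ⟨⟨h0, h1, h2, h3, h4, h5, h6, h7, h8, h9, h10, h11, h12, h13, h14, h15, h16, h17, h18, h19, h20, h21, h22, h23, h24, h25, h26, h27⟩, h28, h29, h30, h31, h32, h33, h34, h35, h36, h37, h38, h39, h40, h41, h42, h43, h44, h45, h46, h47, h48, h49, h50, h51, h52, h53, h54⟩ := h
  exact ⟨⟨hf (by simpa only [map_mul, map_inv, map_one] using h0),
    hf (by simpa only [map_mul, map_inv, map_one] using h1),
    hf (by simpa only [map_mul, map_inv, map_one] using h2),
    hf (by simpa only [map_mul, map_inv, map_one] using h3),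
    hf (by simpa only [map_mul, map_inv, map_one] using h4),
    hf (by simpa only [map_mul, map_inv, map_one] using h5),
    hf (by simpa only [map_mul, map_inv, map_one] using h6),
    hf (by simpa only [map_mul, map_inv, map_one] using h7),
    hf (by simpa only [map_mul, map_inv, map_one] using h8),
    hf (by simpa only [map_mul, map_inv, map_one] using h9),
    hf (by simpa only [map_mul, map_inv, map_one] using h10),
    hf (by simpa only [map_mul, map_inv, map_one] using h11),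
    hf (by simpa only [map_mul, map_inv, map_one] using h12),
    hf (by simpa only [map_mul, map_inv, map_one] using h13),
    hf (by simpa only [map_mul, map_inv, map_one] using h14),
    hf (by simpa only [map_mul, map_inv, map_one] using h15),
    hf (by simpa only [map_mul, map_inv, map_one] using h16),
    hf (by simpa only [map_mul, map_inv, map_one] using h17),
    hf (by simpa only [map_mul, map_inv, map_one] using h18),
    hf (by simpa only [map_mul, map_inv, map_one] using h19),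
    hf (by simpa only [map_mul, map_inv, map_one] using h20),
    hf (by simpa only [map_mul, map_inv, map_one] using h21),
    hf (by simpa only [map_mul, map_inv, map_one] using h22),
    hf (by simpa only [map_mul, map_inv, map_one] using h23),
    hf (by simpa only [map_mul, map_inv, map_one] using h24),
    hf (by simpa only [map_mul, map_inv, map_one] using h25),
    hf (by simpa only [map_mul, map_inv, map_one] using h26),
    hf (by simpa only [map_mul, map_inv, map_one] using h27)⟩,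
    hf (by simpa only [map_mul, map_inv, map_one] using h28),
    hf (by simpa only [map_mul, map_inv, map_one] using h29),
    hf (by simpa only [map_mul, map_inv, map_one] using h30),
    hf (by simpa only [map_mul, map_inv, map_one] using h31),
    hf (by simpa only [map_mul, map_inv, map_one] using h32),
    hf (by simpa only [map_mul, map_inv, map_one] using h33),
    hf (by simpa only [map_mul, map_inv, map_one] using h34),
    hf (by simpa only [map_mul, map_inv, map_one] using h35),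
    hf (by simpa only [map_mul, map_inv, map_one] using h36),
    hf (by simpa only [map_mul, map_inv, map_one] using h37),
    hf (by simpa only [map_mul, map_inv, map_one] using h38),
    hf (by simpa only [map_mul, map_inv, map_one] using h39),
    hf (by simpa only [map_mul, map_inv, map_one] using h40),
    hf (by simpa only [map_mul, map_inv, map_one] using h41),
    hf (by simpa only [map_mul, map_inv, map_one] using h42),
    hf (by simpa only [map_mul, map_inv, map_one] using h43),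
    hf (by simpa only [map_mul, map_inv, map_one] using h44),
    hf (by simpa only [map_mul, map_inv, map_one] using h45),
    hf (by simpa only [map_mul, map_inv, map_one] using h46),
    hf (by simpa only [map_mul, map_inv, map_one] using h47),
    hf (by simpa only [map_mul, map_inv, map_one] using h48),
    hf (by simpa only [map_mul, map_inv, map_one] using h49),
    hf (by simpa only [map_mul, map_inv, map_one] using h50),
    hf (by simpa only [map_mul, map_inv, map_one] using h51),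
    hf (by simpa only [map_mul, map_inv, map_one] using h52),
    hf (by simpa only [map_mul, map_inv, map_one] using h53),
    hf (by simpa only [map_mul, map_inv, map_one] using h54)⟩

theorem Rel.prod {G G' : Type*} [Group G] [Group G'] {e a b s p q g u i z : G} {e' a' b' s' p' q' g' u' i' z' : G'}
    (h : Rel e a b s p q g u i z) (k : Rel e' a' b' s' p' q' g' u' i' z') :
    Rel (e, e') (a, a') (b, b') (s, s') (p, p') (q, q') (g, g') (u, u') (i, i') (z, z') := by
  obtain ⟨⟨h0, h1, h2, h3, h4, h5, h6, h7, h8, h9, h10, h11, h12, h13, h14, h15, h16, h17, h18, h19, h20, h21, h22, h23, h24, h25, h26, h27⟩, h28, h29, h30, h31, h32, h33, h34, h35, h36, h37, h38, h39, h40, h41, h42, h43, h44, h45, h46, h47, h48, h49, h50, h51, h52, h53, h54⟩ := h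
  obtain ⟨⟨k0, k1, k2, k3, k4, k5, k6, k7, k8, k9, k10, k11, k12, k13, k14, k15, k16, k17, k18, k19, k20, k21, k22, k23, k24, k25, k26, k27⟩, k28, k29, k30, k31, k32, k33, k34, k35, k36, k37, k38, k39, k40, k41, k42, k43, k44, k45, k46, k47, k48, k49, k50, k51, k52, k53, k54⟩ := k
  exact ⟨⟨Prod.ext h0 k0, Prod.ext h1 k1, Prod.ext h2 k2, Prod.ext h3 k3, Prod.ext h4 k4, Prod.ext h5 k5, Prod.ext h6 k6, Prod.ext h7 k7, Prod.ext h8 k8, Prod.ext h9 k9, Prod.ext h10 k10, Prod.ext h11 k11, Prod.ext h12 k12, Prod.ext h13 k13, Prod.ext h14 k14, Prod.ext h15 k15, Prod.ext h16 k16, Prod.ext h17 k17, Prod.ext h18 k18, Prod.ext h19 k19, Prod.ext h20 k20, Prod.ext h21 k21, Prod.ext h22 k22, Prod.ext h23 k23, Prod.ext h24 k24, Prod.ext h25 k25, Prod.ext h26 k26, Prod.ext h27 k27⟩, Prod.ext h28 k28, Prod.ext h29 k29, Prod.ext h30 k30, Prod.ext h31 k31, Prod.ext h32 k32, Prod.ext h33 k33, Prod.ext h34 k34, Prod.ext h35 k35, Prod.ext h36 k36, Prod.ext h37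 k37, Prod.ext h38 k38, Prod.ext h39 k39, Prod.ext h40 k40, Prod.ext h41 k41, Prod.ext h42 k42, Prod.ext h43 k43, Prod.ext h44 k44, Prod.ext h45 k45, Prod.ext h46 k46, Prod.ext h47 k47, Prod.ext h48 k48, Prod.ext h49 k49, Prod.ext h50 k50, Prod.ext h51 k51, Prod.ext h52 k52, Prod.ext h53 k53, Prod.ext h54 k54⟩

theorem Rel.sat {G : Type*} [Group G] {e a b s p q g u i z : G} (h : Rel e a b s p q g u i z) :
    ∀ R ∈ Z3E.rels, ev (lt [e, a, b, s, p, q, g, u, i, z]) R = 1 := by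
  obtain ⟨⟨h0, h1, h2, h3, h4, h5, h6, h7, h8, h9, h10, h11, h12, h13, h14, h15, h16, h17, h18, h19, h20, h21, h22, h23, h24, h25, h26, h27⟩, h28, h29, h30, h31, h32, h33, h34, h35, h36, h37, h38, h39, h40, h41, h42, h43, h44, h45, h46, h47, h48, h49, h50, h51, h52, h53, h54⟩ := h
  exact List.forall_mem_cons.2 ⟨show a * (a * (a * (a * 1))) = 1 by
      simpa only [mul_assoc, mul_inv_rev, inv_inv, inv_one, mul_one, one_mul] using mul_inv_eq_one.2 h0,
    List.forall_mem_cons.2 ⟨show b * (b * (b * (b * 1))) = 1 by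
      simpa only [mul_assoc, mul_inv_rev, inv_inv, inv_one, mul_one, one_mul] using mul_inv_eq_one.2 h1,
    List.forall_mem_cons.2 ⟨show a * (b * (a⁻¹ * (b⁻¹ * 1))) = 1 by
      simpa only [mul_assoc, mul_inv_rev, inv_inv, inv_one, mul_one, one_mul] using mul_inv_eq_one.2 h2,
    List.forall_mem_cons.2 ⟨show s * (s * 1) = 1 by
      simpa only [mul_assoc, mul_inv_rev, inv_inv, inv_one, mul_one, one_mul] using mul_inv_eq_one.2 h3,
    List.forall_mem_cons.2 ⟨show s * (a * (s * (a * 1))) = 1 by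
      simpa only [mul_assoc, mul_inv_rev, inv_inv, inv_one, mul_one, one_mul] using mul_inv_eq_one.2 h4,
    List.forall_mem_cons.2 ⟨show s * (b * (s * (b * 1))) = 1 by
      simpa only [mul_assoc, mul_inv_rev, inv_inv, inv_one, mul_one, one_mul] using mul_inv_eq_one.2 h5,
    List.forall_mem_cons.2 ⟨show e * (e * 1) = 1 by
      simpa only [mul_assoc, mul_inv_rev, inv_inv, inv_one, mul_one, one_mul] using mul_inv_eq_one.2 h6,
    List.forall_mem_cons.2 ⟨show e * (a * (e⁻¹ * (a⁻¹ * 1))) = 1 by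
      simpa only [mul_assoc, mul_inv_rev, inv_inv, inv_one, mul_one, one_mul] using mul_inv_eq_one.2 h7,
    List.forall_mem_cons.2 ⟨show e * (b * (e⁻¹ * (b⁻¹ * 1))) = 1 by
      simpa only [mul_assoc, mul_inv_rev, inv_inv, inv_one, mul_one, one_mul] using mul_inv_eq_one.2 h8,
    List.forall_mem_cons.2 ⟨show e * (s * (e⁻¹ * (s⁻¹ * 1))) = 1 by
      simpa only [mul_assoc, mul_inv_rev, inv_inv, inv_one, mul_one, one_mul] using mul_inv_eq_one.2 h9,
    List.forall_mem_cons.2 ⟨show p * (e * (p⁻¹ * (a⁻¹ * (a⁻¹ * (e⁻¹ * 1))))) = 1 by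
      simpa only [mul_assoc, mul_inv_rev, inv_inv, inv_one, mul_one, one_mul] using mul_inv_eq_one.2 h10,
    List.forall_mem_cons.2 ⟨show p * (s * (p⁻¹ * (s⁻¹ * 1))) = 1 by
      simpa only [mul_assoc, mul_inv_rev, inv_inv, inv_one, mul_one, one_mul] using mul_inv_eq_one.2 h11,
    List.forall_mem_cons.2 ⟨show p * (a * (p⁻¹ * (a⁻¹ * 1))) = 1 by
      simpa only [mul_assoc, mul_inv_rev, inv_inv, inv_one, mul_one, one_mul] using mul_inv_eq_one.2 h12,
    List.forall_mem_cons.2 ⟨show p * (b * (p⁻¹ * (b⁻¹ * 1))) = 1 by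
      simpa only [mul_assoc, mul_inv_rev, inv_inv, inv_one, mul_one, one_mul] using mul_inv_eq_one.2 h13,
    List.forall_mem_cons.2 ⟨show p * (p * 1) = 1 by
      simpa only [mul_assoc, mul_inv_rev, inv_inv, inv_one, mul_one, one_mul] using mul_inv_eq_one.2 h14,
    List.forall_mem_cons.2 ⟨show q * (e * (q⁻¹ * (b⁻¹ * (b⁻¹ * (e⁻¹ * 1))))) = 1 by
      simpa only [mul_assoc, mul_inv_rev, inv_inv, inv_one, mul_one, one_mul] using mul_inv_eq_one.2 h15,
    List.forall_mem_cons.2 ⟨show q * (s * (q⁻¹ * (s⁻¹ * 1))) = 1 by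
      simpa only [mul_assoc, mul_inv_rev, inv_inv, inv_one, mul_one, one_mul] using mul_inv_eq_one.2 h16,
    List.forall_mem_cons.2 ⟨show q * (a * (q⁻¹ * (a⁻¹ * 1))) = 1 by
      simpa only [mul_assoc, mul_inv_rev, inv_inv, inv_one, mul_one, one_mul] using mul_inv_eq_one.2 h17,
    List.forall_mem_cons.2 ⟨show q * (b * (q⁻¹ * (b⁻¹ * 1))) = 1 by
      simpa only [mul_assoc, mul_inv_rev, inv_inv, inv_one, mul_one, one_mul] using mul_inv_eq_one.2 h18,
    List.forall_mem_cons.2 ⟨show q * (q * 1) = 1 by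
      simpa only [mul_assoc, mul_inv_rev, inv_inv, inv_one, mul_one, one_mul] using mul_inv_eq_one.2 h19,
    List.forall_mem_cons.2 ⟨show p * (q * (p⁻¹ * (q⁻¹ * 1))) = 1 by
      simpa only [mul_assoc, mul_inv_rev, inv_inv, inv_one, mul_one, one_mul] using mul_inv_eq_one.2 h20,
    List.forall_mem_cons.2 ⟨show g * (g * 1) = 1 by
      simpa only [mul_assoc, mul_inv_rev, inv_inv, inv_one, mul_one, one_mul] using mul_inv_eq_one.2 h21,
    List.forall_mem_cons.2 ⟨show g * (e * (g⁻¹ * (e⁻¹ * 1))) = 1 by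
      simpa only [mul_assoc, mul_inv_rev, inv_inv, inv_one, mul_one, one_mul] using mul_inv_eq_one.2 h22,
    List.forall_mem_cons.2 ⟨show g * (s * (g⁻¹ * (s⁻¹ * 1))) = 1 by
      simpa only [mul_assoc, mul_inv_rev, inv_inv, inv_one, mul_one, one_mul] using mul_inv_eq_one.2 h23,
    List.forall_mem_cons.2 ⟨show g * (a * (g * (b⁻¹ * (b⁻¹ * (a⁻¹ * 1))))) = 1 by
      simpa only [mul_assoc, mul_inv_rev, inv_inv, inv_one, mul_one, one_mul] using mul_inv_eq_one.2 h24,
    List.forall_mem_cons.2 ⟨show g * (b * (g * (b⁻¹ * (b⁻¹ * (a⁻¹ * (a⁻¹ * (b⁻¹ * 1))))))) = 1 by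
      simpa only [mul_assoc, mul_inv_rev, inv_inv, inv_one, mul_one, one_mul] using mul_inv_eq_one.2 h25,
    List.forall_mem_cons.2 ⟨show g * (p * (g⁻¹ * (p⁻¹ * 1))) = 1 by
      simpa only [mul_assoc, mul_inv_rev, inv_inv, inv_one, mul_one, one_mul] using mul_inv_eq_one.2 h26,
    List.forall_mem_cons.2 ⟨show g * (q * (g⁻¹ * (q⁻¹ * 1))) = 1 by
      simpa only [mul_assoc, mul_inv_rev, inv_inv, inv_one, mul_one, one_mul] using mul_inv_eq_one.2 h27,
    List.forall_mem_cons.2 ⟨show u * (u * 1) = 1 by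
      simpa only [mul_assoc, mul_inv_rev, inv_inv, inv_one, mul_one, one_mul] using mul_inv_eq_one.2 h28,
    List.forall_mem_cons.2 ⟨show u * (e * (u⁻¹ * (e⁻¹ * 1))) = 1 by
      simpa only [mul_assoc, mul_inv_rev, inv_inv, inv_one, mul_one, one_mul] using mul_inv_eq_one.2 h29,
    List.forall_mem_cons.2 ⟨show u * (a * (u⁻¹ * (a⁻¹ * 1))) = 1 by
      simpa only [mul_assoc, mul_inv_rev, inv_inv, inv_one, mul_one, one_mul] using mul_inv_eq_one.2 h30,
    List.forall_mem_cons.2 ⟨show u * (b * (u⁻¹ * (b * (a * 1)))) = 1 by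
      simpa only [mul_assoc, mul_inv_rev, inv_inv, inv_one, mul_one, one_mul] using mul_inv_eq_one.2 h31,
    List.forall_mem_cons.2 ⟨show u * (s * (u⁻¹ * (s⁻¹ * 1))) = 1 by
      simpa only [mul_assoc, mul_inv_rev, inv_inv, inv_one, mul_one, one_mul] using mul_inv_eq_one.2 h32,
    List.forall_mem_cons.2 ⟨show u * (p * (u⁻¹ * (p⁻¹ * 1))) = 1 by
      simpa only [mul_assoc, mul_inv_rev, inv_inv, inv_one, mul_one, one_mul] using mul_inv_eq_one.2 h33,
    List.forall_mem_cons.2 ⟨show u * (q * (u⁻¹ * (p * (q * 1)))) = 1 by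
      simpa only [mul_assoc, mul_inv_rev, inv_inv, inv_one, mul_one, one_mul] using mul_inv_eq_one.2 h34,
    List.forall_mem_cons.2 ⟨show u * (g * (u⁻¹ * (s⁻¹ * (g⁻¹ * 1)))) = 1 by
      simpa only [mul_assoc, mul_inv_rev, inv_inv, inv_one, mul_one, one_mul] using mul_inv_eq_one.2 h35,
    List.forall_mem_cons.2 ⟨show i * (i * 1) = 1 by
      simpa only [mul_assoc, mul_inv_rev, inv_inv, inv_one, mul_one, one_mul] using mul_inv_eq_one.2 h36,
    List.forall_mem_cons.2 ⟨show i * (u * (i⁻¹ * (u⁻¹ * 1))) = 1 by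
      simpa only [mul_assoc, mul_inv_rev, inv_inv, inv_one, mul_one, one_mul] using mul_inv_eq_one.2 h37,
    List.forall_mem_cons.2 ⟨show i * (e * (i⁻¹ * (e⁻¹ * (s⁻¹ * (a⁻¹ * 1))))) = 1 by
      simpa only [mul_assoc, mul_inv_rev, inv_inv, inv_one, mul_one, one_mul] using mul_inv_eq_one.2 h38,
    List.forall_mem_cons.2 ⟨show i * (a * (i⁻¹ * (a⁻¹ * (p⁻¹ * 1)))) = 1 by
      simpa only [mul_assoc, mul_inv_rev, inv_inv, inv_one, mul_one, one_mul] using mul_inv_eq_one.2 h39,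
    List.forall_mem_cons.2 ⟨show i * (b * (i⁻¹ * (a⁻¹ * (a⁻¹ * (b⁻¹ * (q⁻¹ * 1)))))) = 1 by
      simpa only [mul_assoc, mul_inv_rev, inv_inv, inv_one, mul_one, one_mul] using mul_inv_eq_one.2 h40,
    List.forall_mem_cons.2 ⟨show i * (s * (i⁻¹ * (s⁻¹ * (p⁻¹ * 1)))) = 1 by
      simpa only [mul_assoc, mul_inv_rev, inv_inv, inv_one, mul_one, one_mul] using mul_inv_eq_one.2 h41,
    List.forall_mem_cons.2 ⟨show i * (p * (i⁻¹ * (p⁻¹ * 1))) = 1 by
      simpa only [mul_assoc, mul_inv_rev, inv_inv, inv_one, mul_one, one_mul] using mul_inv_eq_one.2 h42,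
    List.forall_mem_cons.2 ⟨show i * (q * (i⁻¹ * (q⁻¹ * 1))) = 1 by
      simpa only [mul_assoc, mul_inv_rev, inv_inv, inv_one, mul_one, one_mul] using mul_inv_eq_one.2 h43,
    List.forall_mem_cons.2 ⟨show i * (g * (i⁻¹ * (a⁻¹ * (a⁻¹ * (q⁻¹ * (g⁻¹ * 1)))))) = 1 by
      simpa only [mul_assoc, mul_inv_rev, inv_inv, inv_one, mul_one, one_mul] using mul_inv_eq_one.2 h44,
    List.forall_mem_cons.2 ⟨show z * (e * (z⁻¹ * (e⁻¹ * (s⁻¹ * (b⁻¹ * 1))))) = 1 by
      simpa only [mul_assoc, mul_inv_rev, inv_inv, inv_one, mul_one, one_mul] using mul_inv_eq_one.2 h45,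
    List.forall_mem_cons.2 ⟨show z * (a * (z⁻¹ * (a⁻¹ * (b⁻¹ * (b⁻¹ * (p⁻¹ * 1)))))) = 1 by
      simpa only [mul_assoc, mul_inv_rev, inv_inv, inv_one, mul_one, one_mul] using mul_inv_eq_one.2 h46,
    List.forall_mem_cons.2 ⟨show z * (b * (z⁻¹ * (b⁻¹ * (q⁻¹ * 1)))) = 1 by
      simpa only [mul_assoc, mul_inv_rev, inv_inv, inv_one, mul_one, one_mul] using mul_inv_eq_one.2 h47,
    List.forall_mem_cons.2 ⟨show z * (s * (z⁻¹ * (s⁻¹ * (q⁻¹ * 1)))) = 1 by
      simpa only [mul_assoc, mul_inv_rev, inv_inv, inv_one, mul_one, one_mul] using mul_inv_eq_one.2 h48,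
    List.forall_mem_cons.2 ⟨show z * (p * (z⁻¹ * (p⁻¹ * 1))) = 1 by
      simpa only [mul_assoc, mul_inv_rev, inv_inv, inv_one, mul_one, one_mul] using mul_inv_eq_one.2 h49,
    List.forall_mem_cons.2 ⟨show z * (q * (z⁻¹ * (q⁻¹ * 1))) = 1 by
      simpa only [mul_assoc, mul_inv_rev, inv_inv, inv_one, mul_one, one_mul] using mul_inv_eq_one.2 h50,
    List.forall_mem_cons.2 ⟨show z * (g * (z⁻¹ * (e⁻¹ * (q⁻¹ * (e⁻¹ * (p⁻¹ * (g⁻¹ * 1))))))) = 1 by
      simpa only [mul_assoc, mul_inv_rev, inv_inv, inv_one, mul_one, one_mul] using mul_inv_eq_one.2 h51,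
    List.forall_mem_cons.2 ⟨show z * (z * 1) = 1 by
      simpa only [mul_assoc, mul_inv_rev, inv_inv, inv_one, mul_one, one_mul] using mul_inv_eq_one.2 h52,
    List.forall_mem_cons.2 ⟨show i * (z * (i * (z * 1))) = 1 by
      simpa only [mul_assoc, mul_inv_rev, inv_inv, inv_one, mul_one, one_mul] using mul_inv_eq_one.2 h53,
    List.forall_mem_cons.2 ⟨show z⁻¹ * (u * (z * (u * (z⁻¹ * (u * (z * (u * 1))))))) = 1 by
      simpa only [mul_assoc, mul_inv_rev, inv_inv, inv_one, mul_one, one_mul] using mul_inv_eq_one.2 h54,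
    fun _ h => absurd h List.not_mem_nil⟩⟩⟩⟩⟩⟩⟩⟩⟩⟩⟩⟩⟩⟩⟩⟩⟩⟩⟩⟩⟩⟩⟩⟩⟩⟩⟩⟩⟩⟩⟩⟩⟩⟩⟩⟩⟩⟩⟩⟩⟩⟩⟩⟩⟩⟩⟩⟩⟩⟩⟩⟩⟩⟩⟩

theorem Rel.of_sat {G : Type*} [Group G] {e a b s p q g u i z : G}
    (h : ∀ R ∈ Z3E.rels, ev (lt [e, a, b, s, p, q, g, u, i, z]) R = 1) : Rel e a b s p q g u i z := by
  obtain ⟨h0, h⟩ := List.forall_mem_cons.1 h
  obtain ⟨h1, h⟩ := List.forall_mem_cons.1 h
  obtain ⟨h2, h⟩ := List.forall_mem_cons.1 h
  obtain ⟨h3, h⟩ := List.forall_mem_cons.1 h
  obtain ⟨h4, h⟩ := List.forall_mem_cons.1 h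
  obtain ⟨h5, h⟩ := List.forall_mem_cons.1 h
  obtain ⟨h6, h⟩ := List.forall_mem_cons.1 h
  obtain ⟨h7, h⟩ := List.forall_mem_cons.1 h
  obtain ⟨h8, h⟩ := List.forall_mem_cons.1 h
  obtain ⟨h9, h⟩ := List.forall_mem_cons.1 h
  obtain ⟨h10, h⟩ := List.forall_mem_cons.1 h
  obtain ⟨h11, h⟩ := List.forall_mem_cons.1 h
  obtain ⟨h12, h⟩ := List.forall_mem_cons.1 h
  obtain ⟨h13, h⟩ := List.forall_mem_cons.1 h
  obtain ⟨h14, h⟩ := List.forall_mem_cons.1 h
  obtain ⟨h15, h⟩ := List.forall_mem_cons.1 h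
  obtain ⟨h16, h⟩ := List.forall_mem_cons.1 h
  obtain ⟨h17, h⟩ := List.forall_mem_cons.1 h
  obtain ⟨h18, h⟩ := List.forall_mem_cons.1 h
  obtain ⟨h19, h⟩ := List.forall_mem_cons.1 h
  obtain ⟨h20, h⟩ := List.forall_mem_cons.1 h
  obtain ⟨h21, h⟩ := List.forall_mem_cons.1 h
  obtain ⟨h22, h⟩ := List.forall_mem_cons.1 h
  obtain ⟨h23, h⟩ := List.forall_mem_cons.1 h
  obtain ⟨h24, h⟩ := List.forall_mem_cons.1 h
  obtain ⟨h25, h⟩ := List.forall_mem_cons.1 h
  obtain ⟨h26, h⟩ := List.forall_mem_cons.1 h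
  obtain ⟨h27, h⟩ := List.forall_mem_cons.1 h
  obtain ⟨h28, h⟩ := List.forall_mem_cons.1 h
  obtain ⟨h29, h⟩ := List.forall_mem_cons.1 h
  obtain ⟨h30, h⟩ := List.forall_mem_cons.1 h
  obtain ⟨h31, h⟩ := List.forall_mem_cons.1 h
  obtain ⟨h32, h⟩ := List.forall_mem_cons.1 h
  obtain ⟨h33, h⟩ := List.forall_mem_cons.1 h
  obtain ⟨h34, h⟩ := List.forall_mem_cons.1 h
  obtain ⟨h35, h⟩ := List.forall_mem_cons.1 h
  obtain ⟨h36, h⟩ := List.forall_mem_cons.1 h
  obtain ⟨h37, h⟩ := List.forall_mem_cons.1 h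
  obtain ⟨h38, h⟩ := List.forall_mem_cons.1 h
  obtain ⟨h39, h⟩ := List.forall_mem_cons.1 h
  obtain ⟨h40, h⟩ := List.forall_mem_cons.1 h
  obtain ⟨h41, h⟩ := List.forall_mem_cons.1 h
  obtain ⟨h42, h⟩ := List.forall_mem_cons.1 h
  obtain ⟨h43, h⟩ := List.forall_mem_cons.1 h
  obtain ⟨h44, h⟩ := List.forall_mem_cons.1 h
  obtain ⟨h45, h⟩ := List.forall_mem_cons.1 h
  obtain ⟨h46, h⟩ := List.forall_mem_cons.1 h
  obtain ⟨h47, h⟩ := List.forall_mem_cons.1 h
  obtain ⟨h48, h⟩ := List.forall_mem_cons.1 h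
  obtain ⟨h49, h⟩ := List.forall_mem_cons.1 h
  obtain ⟨h50, h⟩ := List.forall_mem_cons.1 h
  obtain ⟨h51, h⟩ := List.forall_mem_cons.1 h
  obtain ⟨h52, h⟩ := List.forall_mem_cons.1 h
  obtain ⟨h53, h⟩ := List.forall_mem_cons.1 h
  obtain ⟨h54, h⟩ := List.forall_mem_cons.1 h
  exact ⟨⟨mul_inv_eq_one.1 (by simpa only [mul_assoc, mul_inv_rev, inv_inv, inv_one, mul_one, one_mul] using (show a * (a * (a * (a * 1))) = 1 from h0)),
    mul_inv_eq_one.1 (by simpa only [mul_assoc, mul_inv_rev, inv_inv, inv_one, mul_one, one_mul] using (show b * (b * (b * (b * 1))) = 1 from h1)),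
    mul_inv_eq_one.1 (by simpa only [mul_assoc, mul_inv_rev, inv_inv, inv_one, mul_one, one_mul] using (show a * (b * (a⁻¹ * (b⁻¹ * 1))) = 1 from h2)),
    mul_inv_eq_one.1 (by simpa only [mul_assoc, mul_inv_rev, inv_inv, inv_one, mul_one, one_mul] using (show s * (s * 1) = 1 from h3)),
    mul_inv_eq_one.1 (by simpa only [mul_assoc, mul_inv_rev, inv_inv, inv_one, mul_one, one_mul] using (show s * (a * (s * (a * 1))) = 1 from h4)),
    mul_inv_eq_one.1 (by simpa only [mul_assoc, mul_inv_rev, inv_inv, inv_one, mul_one, one_mul] using (show s * (b * (s * (b * 1))) = 1 from h5)),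
    mul_inv_eq_one.1 (by simpa only [mul_assoc, mul_inv_rev, inv_inv, inv_one, mul_one, one_mul] using (show e * (e * 1) = 1 from h6)),
    mul_inv_eq_one.1 (by simpa only [mul_assoc, mul_inv_rev, inv_inv, inv_one, mul_one, one_mul] using (show e * (a * (e⁻¹ * (a⁻¹ * 1))) = 1 from h7)),
    mul_inv_eq_one.1 (by simpa only [mul_assoc, mul_inv_rev, inv_inv, inv_one, mul_one, one_mul] using (show e * (b * (e⁻¹ * (b⁻¹ * 1))) = 1 from h8)),
    mul_inv_eq_one.1 (by simpa only [mul_assoc, mul_inv_rev, inv_inv, inv_one, mul_one, one_mul] using (show e * (s * (e⁻¹ * (s⁻¹ * 1))) = 1 from h9)),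
    mul_inv_eq_one.1 (by simpa only [mul_assoc, mul_inv_rev, inv_inv, inv_one, mul_one, one_mul] using (show p * (e * (p⁻¹ * (a⁻¹ * (a⁻¹ * (e⁻¹ * 1))))) = 1 from h10)),
    mul_inv_eq_one.1 (by simpa only [mul_assoc, mul_inv_rev, inv_inv, inv_one, mul_one, one_mul] using (show p * (s * (p⁻¹ * (s⁻¹ * 1))) = 1 from h11)),
    mul_inv_eq_one.1 (by simpa only [mul_assoc, mul_inv_rev, inv_inv, inv_one, mul_one, one_mul] using (show p * (a * (p⁻¹ * (a⁻¹ * 1))) = 1 from h12)),
    mul_inv_eq_one.1 (by simpa only [mul_assoc, mul_inv_rev, inv_inv, inv_one, mul_one, one_mul] using (show p * (b * (p⁻¹ * (b⁻¹ * 1))) = 1 from h13)),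
    mul_inv_eq_one.1 (by simpa only [mul_assoc, mul_inv_rev, inv_inv, inv_one, mul_one, one_mul] using (show p * (p * 1) = 1 from h14)),
    mul_inv_eq_one.1 (by simpa only [mul_assoc, mul_inv_rev, inv_inv, inv_one, mul_one, one_mul] using (show q * (e * (q⁻¹ * (b⁻¹ * (b⁻¹ * (e⁻¹ * 1))))) = 1 from h15)),
    mul_inv_eq_one.1 (by simpa only [mul_assoc, mul_inv_rev, inv_inv, inv_one, mul_one, one_mul] using (show q * (s * (q⁻¹ * (s⁻¹ * 1))) = 1 from h16)),
    mul_inv_eq_one.1 (by simpa only [mul_assoc, mul_inv_rev, inv_inv, inv_one, mul_one, one_mul] using (show q * (a * (q⁻¹ * (a⁻¹ * 1))) = 1 from h17)),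
    mul_inv_eq_one.1 (by simpa only [mul_assoc, mul_inv_rev, inv_inv, inv_one, mul_one, one_mul] using (show q * (b * (q⁻¹ * (b⁻¹ * 1))) = 1 from h18)),
    mul_inv_eq_one.1 (by simpa only [mul_assoc, mul_inv_rev, inv_inv, inv_one, mul_one, one_mul] using (show q * (q * 1) = 1 from h19)),
    mul_inv_eq_one.1 (by simpa only [mul_assoc, mul_inv_rev, inv_inv, inv_one, mul_one, one_mul] using (show p * (q * (p⁻¹ * (q⁻¹ * 1))) = 1 from h20)),
    mul_inv_eq_one.1 (by simpa only [mul_assoc, mul_inv_rev, inv_inv, inv_one, mul_one, one_mul] using (show g * (g * 1) = 1 from h21)),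
    mul_inv_eq_one.1 (by simpa only [mul_assoc, mul_inv_rev, inv_inv, inv_one, mul_one, one_mul] using (show g * (e * (g⁻¹ * (e⁻¹ * 1))) = 1 from h22)),
    mul_inv_eq_one.1 (by simpa only [mul_assoc, mul_inv_rev, inv_inv, inv_one, mul_one, one_mul] using (show g * (s * (g⁻¹ * (s⁻¹ * 1))) = 1 from h23)),
    mul_inv_eq_one.1 (by simpa only [mul_assoc, mul_inv_rev, inv_inv, inv_one, mul_one, one_mul] using (show g * (a * (g * (b⁻¹ * (b⁻¹ * (a⁻¹ * 1))))) = 1 from h24)),
    mul_inv_eq_one.1 (by simpa only [mul_assoc, mul_inv_rev, inv_inv, inv_one, mul_one, one_mul] using (show g * (b * (g * (b⁻¹ * (b⁻¹ * (a⁻¹ * (a⁻¹ * (b⁻¹ * 1))))))) = 1 from h25)),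
    mul_inv_eq_one.1 (by simpa only [mul_assoc, mul_inv_rev, inv_inv, inv_one, mul_one, one_mul] using (show g * (p * (g⁻¹ * (p⁻¹ * 1))) = 1 from h26)),
    mul_inv_eq_one.1 (by simpa only [mul_assoc, mul_inv_rev, inv_inv, inv_one, mul_one, one_mul] using (show g * (q * (g⁻¹ * (q⁻¹ * 1))) = 1 from h27))⟩,
    mul_inv_eq_one.1 (by simpa only [mul_assoc, mul_inv_rev, inv_inv, inv_one, mul_one, one_mul] using (show u * (u * 1) = 1 from h28)),
    mul_inv_eq_one.1 (by simpa only [mul_assoc, mul_inv_rev, inv_inv, inv_one, mul_one, one_mul] using (show u * (e * (u⁻¹ * (e⁻¹ * 1))) = 1 from h29)),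
    mul_inv_eq_one.1 (by simpa only [mul_assoc, mul_inv_rev, inv_inv, inv_one, mul_one, one_mul] using (show u * (a * (u⁻¹ * (a⁻¹ * 1))) = 1 from h30)),
    mul_inv_eq_one.1 (by simpa only [mul_assoc, mul_inv_rev, inv_inv, inv_one, mul_one, one_mul] using (show u * (b * (u⁻¹ * (b * (a * 1)))) = 1 from h31)),
    mul_inv_eq_one.1 (by simpa only [mul_assoc, mul_inv_rev, inv_inv, inv_one, mul_one, one_mul] using (show u * (s * (u⁻¹ * (s⁻¹ * 1))) = 1 from h32)),
    mul_inv_eq_one.1 (by simpa only [mul_assoc, mul_inv_rev, inv_inv, inv_one, mul_one, one_mul] using (show u * (p * (u⁻¹ * (p⁻¹ * 1))) = 1 from h33)),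
    mul_inv_eq_one.1 (by simpa only [mul_assoc, mul_inv_rev, inv_inv, inv_one, mul_one, one_mul] using (show u * (q * (u⁻¹ * (p * (q * 1)))) = 1 from h34)),
    mul_inv_eq_one.1 (by simpa only [mul_assoc, mul_inv_rev, inv_inv, inv_one, mul_one, one_mul] using (show u * (g * (u⁻¹ * (s⁻¹ * (g⁻¹ * 1)))) = 1 from h35)),
    mul_inv_eq_one.1 (by simpa only [mul_assoc, mul_inv_rev, inv_inv, inv_one, mul_one, one_mul] using (show i * (i * 1) = 1 from h36)),
    mul_inv_eq_one.1 (by simpa only [mul_assoc, mul_inv_rev, inv_inv, inv_one, mul_one, one_mul] using (show i * (u * (i⁻¹ * (u⁻¹ * 1))) = 1 from h37)),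
    mul_inv_eq_one.1 (by simpa only [mul_assoc, mul_inv_rev, inv_inv, inv_one, mul_one, one_mul] using (show i * (e * (i⁻¹ * (e⁻¹ * (s⁻¹ * (a⁻¹ * 1))))) = 1 from h38)),
    mul_inv_eq_one.1 (by simpa only [mul_assoc, mul_inv_rev, inv_inv, inv_one, mul_one, one_mul] using (show i * (a * (i⁻¹ * (a⁻¹ * (p⁻¹ * 1)))) = 1 from h39)),
    mul_inv_eq_one.1 (by simpa only [mul_assoc, mul_inv_rev, inv_inv, inv_one, mul_one, one_mul] using (show i * (b * (i⁻¹ * (a⁻¹ * (a⁻¹ * (b⁻¹ * (q⁻¹ * 1)))))) = 1 from h40)),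
    mul_inv_eq_one.1 (by simpa only [mul_assoc, mul_inv_rev, inv_inv, inv_one, mul_one, one_mul] using (show i * (s * (i⁻¹ * (s⁻¹ * (p⁻¹ * 1)))) = 1 from h41)),
    mul_inv_eq_one.1 (by simpa only [mul_assoc, mul_inv_rev, inv_inv, inv_one, mul_one, one_mul] using (show i * (p * (i⁻¹ * (p⁻¹ * 1))) = 1 from h42)),
    mul_inv_eq_one.1 (by simpa only [mul_assoc, mul_inv_rev, inv_inv, inv_one, mul_one, one_mul] using (show i * (q * (i⁻¹ * (q⁻¹ * 1))) = 1 from h43)),
    mul_inv_eq_one.1 (by simpa only [mul_assoc, mul_inv_rev, inv_inv, inv_one, mul_one, one_mul] using (show i * (g * (i⁻¹ * (a⁻¹ * (a⁻¹ * (q⁻¹ * (g⁻¹ * 1)))))) = 1 from h44)),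
    mul_inv_eq_one.1 (by simpa only [mul_assoc, mul_inv_rev, inv_inv, inv_one, mul_one, one_mul] using (show z * (e * (z⁻¹ * (e⁻¹ * (s⁻¹ * (b⁻¹ * 1))))) = 1 from h45)),
    mul_inv_eq_one.1 (by simpa only [mul_assoc, mul_inv_rev, inv_inv, inv_one, mul_one, one_mul] using (show z * (a * (z⁻¹ * (a⁻¹ * (b⁻¹ * (b⁻¹ * (p⁻¹ * 1)))))) = 1 from h46)),
    mul_inv_eq_one.1 (by simpa only [mul_assoc, mul_inv_rev, inv_inv, inv_one, mul_one, one_mul] using (show z * (b * (z⁻¹ * (b⁻¹ * (q⁻¹ * 1)))) = 1 from h47)),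
    mul_inv_eq_one.1 (by simpa only [mul_assoc, mul_inv_rev, inv_inv, inv_one, mul_one, one_mul] using (show z * (s * (z⁻¹ * (s⁻¹ * (q⁻¹ * 1)))) = 1 from h48)),
    mul_inv_eq_one.1 (by simpa only [mul_assoc, mul_inv_rev, inv_inv, inv_one, mul_one, one_mul] using (show z * (p * (z⁻¹ * (p⁻¹ * 1))) = 1 from h49)),
    mul_inv_eq_one.1 (by simpa only [mul_assoc, mul_inv_rev, inv_inv, inv_one, mul_one, one_mul] using (show z * (q * (z⁻¹ * (q⁻¹ * 1))) = 1 from h50)),
    mul_inv_eq_one.1 (by simpa only [mul_assoc, mul_inv_rev, inv_inv, inv_one, mul_one, one_mul] using (show z * (g * (z⁻¹ * (e⁻¹ * (q⁻¹ * (e⁻¹ * (p⁻¹ * (g⁻¹ * 1))))))) = 1 from h51)),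
    mul_inv_eq_one.1 (by simpa only [mul_assoc, mul_inv_rev, inv_inv, inv_one, mul_one, one_mul] using (show z * (z * 1) = 1 from h52)),
    mul_inv_eq_one.1 (by simpa only [mul_assoc, mul_inv_rev, inv_inv, inv_one, mul_one, one_mul] using (show i * (z * (i * (z * 1))) = 1 from h53)),
    mul_inv_eq_one.1 (by simpa only [mul_assoc, mul_inv_rev, inv_inv, inv_one, mul_one, one_mul] using (show z⁻¹ * (u * (z * (u * (z⁻¹ * (u * (z * (u * 1))))))) = 1 from h54))⟩

theorem bound {G : Type*} [Group G] [Finite G] {e a b s p q g u i z : G} (h : Rel e a b s p q g u i z) :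
    Nat.card (closure {w | w ∈ [e, a, b, s, p, q, g, u, i, z]}) ≤ 8192 := by
  obtain ⟨φ, h0, h1, h2, h3, h4, h5, h6⟩ := S00.model h.1
  obtain ⟨pt, hp, -, hT⟩ := Z3E.enum (lt [e, a, b, s, p, q, g, u, i, z]) ((1 : G) : G ⧸ φ.range)
    (lt_icol _ _ (k := 10) rfl (by decide +kernel)) (lt_ge le_rfl) h.sat
    (List.forall_mem_cons.2 ⟨smul_one_coset.2 ⟨_, h0.trans (mul_one _).symm⟩,
      List.forall_mem_cons.2 ⟨smul_one_coset.2 ⟨_, h1.trans (mul_one _).symm⟩,
      List.forall_mem_cons.2 ⟨smul_one_coset.2 ⟨_, h2.trans (mul_one _).symm⟩,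
      List.forall_mem_cons.2 ⟨smul_one_coset.2 ⟨_, h3.trans (mul_one _).symm⟩,
      List.forall_mem_cons.2 ⟨smul_one_coset.2 ⟨_, h4.trans (mul_one _).symm⟩,
      List.forall_mem_cons.2 ⟨smul_one_coset.2 ⟨_, h5.trans (mul_one _).symm⟩,
      List.forall_mem_cons.2 ⟨smul_one_coset.2 ⟨_, h6.trans (mul_one _).symm⟩,
      fun _ h => absurd h List.not_mem_nil⟩⟩⟩⟩⟩⟩⟩)
  exact (card_closure_le (l := [e, a, b, s, p, q, g, u, i, z]) (by norm_num) hp hT).trans (Nat.mul_le_mul_right 16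
    ((Nat.card_le_card_of_surjective _ φ.rangeRestrict_surjective).trans S00.card.le))

open H69 Cfsg H30.CS S00

noncomputable def TA : H54.Tr :=
  (.node (nat_lit 7) (.node (nat_lit 3) (.node (nat_lit 1) (.node (nat_lit 0) (.leaf (nat_lit 0xffffbfbfcfdfebf3f8fbfdbebf4f9fcbe3f0f7fbbdbecf5fabd3e8f3f9bcbe4f1f8bc3e0eff7bbbdcedf6bb3d8ebf5babd4e9f4ba3d0e7f3b9bcce5f2b93c8e3f1b8bc4e1f0b83c0dfefb7bbcddeeb73b8dbedb6bb4d9ecb63b0d7ebb5bacd5eab53a8d3e9b4ba4d1e8b43a0cfe7b3b9ccde6b3398cbe5b2b94c9e4b2390c7e3b1b8cc5e2b1388c3e1b0b84c1e0b0380bfdfafb7cbddeaf378bbddaeb74b9dcae370b7dbadb6cb5daad368b3d9acb64b1d8ac360afd7abb5cadd6ab358abd5aab54a9d4aa350a7d3a9b4ca5d2a9348a3d1a8b44a1d0a83409fcfa7b3c9dcea73389bcda6b3499cca633097cba5b2c95caa532893c9a4b2491c8a43208fc7a3b1c8dc6a33188bc5a2b1489c4a231087c3a1b0c85c2a130883c1a0b0481c0a03007fbf9fafc7dbe9f2f87bbd9eaf479bc9e2f077bb9daec75ba9d2e873b99cae471b89c2e06fb79badc6db69b2d86bb59aad469b49a2d067b399acc65b2992c863b198ac461b0982c05faf97abc5dae972b85bad96ab459ac962b057ab95aac55aa952a853a994aa451a8942a04fa793a9c4da6932984ba592a9449a49229047a391a8c45a29128843a190a8441a0902803f9f8fa7c3d9e8f2783b9d8ea74399c8e270379b8da6c359a8d26833998ca6431988c2602f978ba5c2d968b2582b958aa5429948a250279389a4c259289248239188a442190882401f8f87a3c1d8e872381b8d86a34198c86230178b85a2c158a85228138984a241188842200f8783a1c0d86832180b8582a14098482210078381a0c058281208038180a04018080200))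
(.leaf (nat_lit 0x4e2d634f92e9daff5ec071f04e3afad166c59bf052d93b9e6a92ee6a711d5c94cd6e322d4d546af1c805e6c8b1a2a367bb07a70d7f690bc7b651151b2bc859fb43ee1e6e9247dd477aa02378d8ed21f4753a4a9a5872bf361dd47254e738aa7e3cb4f6bf058b6ec79606cb147f9c9c04e6c7aab389924105d83f65d8c92fd5263797485eb33052da38ab441ca7d745f7fce9d9d7a885f3b572b8e4a2d8cf5de2efc5ae2c072a856b0ba13598bb743d96ea82aa95f9fe0896ff16173336eed1ac2d3d7407bc53d5cb9040917a4fd3bae055baf3e463f9763b47513aa8b43c975aeff7d62d05c8c4b2cea2c8538f9325bed9647f82a527597428ad42dc5cf3b77dcdeff7c3338add62fa086c33997be36c62712c5bdce222349ba4f9668332a5dbcfd08c2f02b6e7f883856a37fd368e8dc2fc9c7a2cda449795924301860a9affa619e39d6c936c7201213dbf9b2612181e7aa6d5e7034ddf58f0231f29d23d669e3e073205a8aad5e89182862a09ea3eb695ae3fdf2f8ca7b16e548e2d63f4e8e95f6c1b8cd4a84e5cc243624f8b157ff67f7fc78e47fb6c126a53af84264bcffad439e0a5122a9da1a46a47c53463be941b4fb2d3dae8eec63cfeb71b76267a126a10c18fc5e119c20e200e1988b9165af1fa600a9b3f734d2ea79050d9bed82e5a86201e586d671bcd70912826d623af8cb5d7406b08c3560f9903ca02aadaae538306a0d530c90230a5e57c09e91221142813a404adb35c20de68030780e670d90832e6e7e98bebd2492c22102883868360582a98080e87c0a04738080200)))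
(.node (nat_lit 2) (.leaf (nat_lit 0xadecb6179fdfebf3f89bd46d2e5afd15b41dc01b8b3ecb9faa921a0adf7109277a7221c34d71eae2309be7b3115a0dfab1a7a0b5cf826403d6ab1a6e11d696ef376d8cef04be0d4380d3e3b098d8ea1d1695c8608d769ff9f5fd7947e98cb406ab1da8cecdb4b717252a51a037e7b4efe39e6b32fb1634a4726c9e49da91c7ea4e2687118cade52642c87ca4a74127efbfb83cc848ca93f93f765d8ea20f5a3b48a84ec4855c53530beab613190ff64878d8f8f3f9d7a30abffba2b216eea3e5a575cbd7ed50df0af97ad17e8bd2aa4625fe434e0139772cbc0367aaf36c941299fbe997031220ed20f8e148aab40dba8653a145652749ecacbb6ca6d71477a6bddf52f75d3cee0ef14635bbb1e1b1ee4f0b0c31b378c326f0453b532b077e4910e71fa46cc6c7b5302f3daa5d3b06bcb0bef190b2377e4949d35ae8b9be9a32a62ca17e5e1a78c336dfc4c4c4da359aa5fd9e592a455d7119a55d610593cf63c4c0ed8845aa04c001bc17adfa0b3ea7353a5a39bd727acb990c9e2b8e0acae521177046c807d7a4120e540c05c92dfe23d77e705aa3721a383c0f932131ab5c94f4754c9c78393f0785d7c5128cb9abb2a1c51611926e2f0d8a9daeab7cd9cb1aadcffba770a8e5adbd8c0e0220766c5364c2606a3dcba812da63daf1aa62598e329baa3ce159d0a0f870902a004823bf1a133c2bb994221fa942e89996e91038eb5886b446e1ee6801a5a17a597a75b60a7d12d9c4e24ee101ff740fa1be067027a032181ed63ce14ed92c0410e703a7ca04f92a7266628180a1b5f8446000))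
(.leaf (nat_lit 0x45ac1bb10d2e7b3392477d7ec6a3ff4319a749fac9a5df71d81be8f38a6d8d1e48aaf2d8a20efad75a10e82178967743321d0e181ff25d39e57a2900f3c6ff996c3107e624927541434e0d9bcddbe4f3b85ac68b1b47743363c6329b4defc7998666e6f8617f6c3d1f33a6dba67e83b9c96b57f2cca765a5c2766fe1a885241118df13e62b13c55e74b4c893ed1701818a01e0b48bd5efc3d820063b84f374de10ea954d539e572a96a2741b59abe60ae099c480b2bd9d16354c6048981b8e4e75445022d3504ce5d4d9f46ac67d7c094f305df5df6f80b488d248f468ff05bdbeb910edc30d4f1db87b4f65737d7e6dbe52f45c8960dc29148fa9cb9d9ea151c8ded9495a8745a2b7f38ae27ffc55c5e1bb216c7613712cc96faf1794083d00e43f9d3ac2abeb74327bd78cd28d5c0e08f075eccbe2277dc1fb5de76a2d6e456d85c2c5264e7fb31d01a1b3e06bb2735912134bc8d06421f279823009accf2de35c1c3d20f982721eaf97b87a1f3e4f125b2df6f40102ca95fe4bab9c6ac87a12b65217d36d5190602d3a8241cbd436d288d29f58578852428f7a545c33447de964bffd4f088f676ff20aa4fa809560f9f13078b9847b72783bfa84768aab022654d6dcf5dbd35fd012da0dbd75e643198b55647697bd80a6385a0fb52b959f67029aa13650ba04fdadf46204938f9eb2c8b8e9b34c23771fb097fcaef76aac38abd9c6a9a483e0033453a46162b1678bcc94ca58a4d593abb12cb30fc073a043386bab76019682a142751c83d9e883bd2a351170d352bf0180a1c0bb286200))))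
(.node (nat_lit 5) (.node (nat_lit 4) (.leaf (nat_lit 0xf1737a9da2e9daff5ef7f7ba054f9f5c9e07fbc1b9193f5e6bd2422fb38a4eb9c7fef7d2effdbba6b24ff2c9ccf929e7bfde9f8007f51e947fdd84110525eda8d8d517d16e40dc8ca96af7671deaab63755ba872c4caa2d7731ad1ae41263df63d30f670560b777d7a4cff14109cafd42627aab2564f6d50a94f65dacdc2d516a1220c332df6ea6be2dd0ca935a69537fce7788a4f0a11f28ed264b7068b9cfdd96c55c311170385ab04b84864651d9e30325ad1affe2669d4e10f33a6aba5cf9b38feff8e53404894739a5e06923aa1a3d680da3e728332b90d3aaa93f4ea99e3c00596c81aed004c83488aec23b3a485656514e0e4a2c1753a5433a983e36238eec220443b9d4f3a03c2c163196ebe98d6e7117b1a406f7b914d222955ea1337938c2bec4c3af2a2366a202f44ab90a0464c868c971f262193855f861c6f272c2cb1a73141e1ea6122cd7873c392180152bc12c0653d7998ec1c5611d21766c343b9b1130998d573bf028d95da6f5d68dbcd765456d4a62312458e0d43fb7eea79c5eb3707d7ca6be36c3605e5eb95b5d269dfa9ab165e794d17265f67a35e06fc057c14796d3687b2b7a9872e694fd0cec51551933e2b138bfea2d2b6c67b796b7ff050ef7ee2b49b7433821a0edd637dfa60f3c2bf631d2e392ce169e6205f4a87979cf1f8bf8d3b42582bb6d623bc20718ad7a39508562979e899652054ae46a806b3e901ecb80117c8f8724970e64e7d12cc44edb8e30f3f8c032198a1c023b832e6644d9a8bd8004804108f03a89624f92b5a66f807c0a1be88446000))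
(.leaf (nat_lit 0xb6edf6dbaf67aa28f6c0cca8aadb2d0040e0b94e842cd373567db3c89fae1e3a7aa5490b1a5a46f1c80784c14ac152c8fc6943107b51019ea193f06009a307faaadd429c30bbd6123358236c6855f1f423b45bda4bc2bcae2f2172229bd8a4c9202d5e039698e2281e02bf7fe43018a13f01d84989e13c5227d2e860c89e30d63784f16bf198a8da586301113fdb988eccfc10f7bfe5207537847e22df1f77608188b1ffaac52718fbe56e6e17fa610fea08e6923fe4b1d2a1569bf243eb4f1c44236878765379e55406953fbc1af9a08e6594925bfa87defbf7c33ff67418deeb49a60e80aad75c6c0b42e5f17c75b46965f3be8a3834ec80b13b3193b9f777536376f3a98af721cdb86ecb457ad86c4e2b83e3de26ec04dcd7396686601142a676f54f02b1e6209f8eb990da1f268dc3acdf7a2ccc34adb1ad360bdd8e0653574a081d6cfb6b9cbacdd0992d6fe3ce5e7aa16356f228c14b702318f1fabfc99e34f55bba95f79a07b2c2862e047a76b7e6c4961d0c64a6f135ad8e1ca3f50f692fe5aba42d4aa901efa826418ae1e8b64513924444135002558bbe496257c47babba379b09e28fefe45191929803387a6bb079b9873cef8ddce7b70b5e1fea13f44b497885e3a950b2b3023d48ad42361dd3640aef74a30fdccdfe5077155836ba8717a3b53467272d7a3a049cc99eafb5ee8ae86913a4563099fca5a21138ae17a8c6be9a6be0953446cb9b12f91a3ea694ca0ce4da035dc75ada03406fc1b33b4faba85d615dabd24a3083d94d8393567511733f52ce87c0a1ce73286200)))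
(.node (nat_lit 6) (.leaf (nat_lit 0x54c338de1d2e7b3392b95a6a36bb2e08d19dc0dce0e5d371da7c1a0ac178a9575db7f8c41a4c86e75276e8213fa055c33b69442f9d4567f476f4a53225de211dff7ca876c27a4abb0f26615098df6a2f16e6f51e2d7212c1f4dd81cef3e46b018488e60e90ff708722c5e8dbd6febe0feaab57f25515b4a442566fe0be2e244ce26dab098cad6c6f8b66c3c147cbde938a31452aa5246621111106046b3f77dd865250ae3c588fa0fbecb7b1193e66055d9f17ab3fbdab50f45d74485aeb22336579399beb509c0b2406f53f301a8425abfa09aa084e87d7ec7a48e97d7418d34f476162401c777866329248ce6b45aa7653d3a989f832f97656354d36a6cd86bddc86f4e8dcee0ef7fc6cd6f179ae1e4f1fee96f779a4f6cebcc58d7b050c494b671d2cb666c4747b2f57811a1401976abee4b4da840f1aa1fb1807ea0d5a3381f0a007c38276090d0630c5c3da32734ed776592445e79fb26fb7e045acba2d9c6fde0b8a9604720bbc17a4ce0321156eb41d2572cba2cb45b2a32b8a8acb1df3feeaa5f2d857b5027edea35170a542a8f5137c169e3ffc87dc03450adc1ccdc5e12adae79556e240523480583014f3afb3928e27c1461d0d8afabb8b696b018ce3a67ae3f1d8e39673f102549e566c53675564c8bdfd84a63d609b04aa62730ad29dc0f4e11076cb2bca3972018f9eeb1a1a9d36cc04ec1fda80784e3be51e38ee8986bdf98cc0603146e430d4ecba72fb83930db2959baddf904f0feff4e1b0e7a3ab765fa63ce14a123195d97383a928241a05bcf5700180a671e9066800))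
(.leaf (nat_lit 0x9e5bac77b2d9cab3769fe0b8e70945a6e97ea55cdbdfbe0fe868ee6a22950f3f2223b59b9f5011b167f2a821729955c32a1b2b88a2b43d00d6f816e0f1339f96750a46d39e5e4abb433bcbd8d8eff0ee75ff7f4a187f444a1d0f229f842f068bf6301862d68ba4079445e824049d80e4e3e302ff02974129c2763d7bcf236b574f0b396eb331703170c2c893ef5fefa2d00764fbabe44232b161b9a38da837bc45e5db5a3feea2a297bdb7063b7e660b7a430dbed0ea086dd57ccdb78e53db588d314823a053f1c9066ffeb762897a25a2fea9aa0c028ff2e67a48f565cfb89a80bc3a160302d7da407b160b9b145d957165d38f894dc9115a1760a343ae9efdcdeca90985d8dd62ff984ad91cf94ec5627cdf06ece377e44e99ce1d1b303ddb2cd09938a60ee69032857e0cc7fa7b432cfc4915c2b089c714c2448f3d95bafb5d55e3f06beb635678a081be2d263a7d4640d6d793031ecefd9895f008909bd2ef33bd2760f8ab9e6411829b44605e0b0c5c4ace83b344a526b5478e3e83fe3293c588a5a0985e11b02d574d7c6424239078375736549bdd6289bd832aa6156005e124e6b88297bebd65e3a4fd889495aff9b290b51739f4c63ce68d735b0b561ae59cfaea71b11b8e984f0defdc99165af31fd9b31b3260a66e98d2d2d9becac6aa85b19e58c61252cd9a18c427aaea98cca98ac5502371565aba2caa8de68caeeecc46bdf1320c025c1bf0b17224f56f8926c1a812999dc693dbf103549c0040e10a7b9273ea4bebdce70309645f83a93cb984d20f01d387c0a67e7f290200)))))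
(.node (nat_lit 11) (.node (nat_lit 9) (.node (nat_lit 8) (.leaf (nat_lit 0x154ae423af67aa28f6498efe4703fcb2e97e47495fecdf73541ad376a1d50efdf22ef586a27d7ac6b24c40c1a2e80bc8eddd0b602ff65fa6d6178500452a4db4d70a50585a16e64b043cf77133621363dc5b2772cdfaa6dcf3b6d1c9cd2639c122b15e62a618e4032fbfe77f4b3000fdbe19d848569796320282e862cd243085a12b3e9118ab706b9f2ba0212d456372cc874fd19bcaab75f761fe370da3744445e587ec91eea2a2968b1219b51e810d828f37e4b2e4b52a1b6cdbf3851babf16ee9da1a6453b048c18de46e027dda5da2281e90967381c79ba68335be27073fc9c09696e4a742d2c49f170b1c5deb4751655ff31f60c2b48e5ede904574636758571bf98e3b88f72db3c7fa94a4febeb1b35b09798d779cfaea6d222beccc4ed684f54bec4c5fc20bdeb983d2849390a0cba7868c90868f15ada61edd95b03b58b76bf031165574dac8830f555e63ce4152bbc501af8f0a4b6c1c5225fa03c9c373b2d760fb319ae76b028d9a1944da745adba1982344a67eb8ff8e3e83f953e68d88eecc58548530ca35675153ac6a9e78d1d7331cc1f5627e678d3c369e762af414bdf7949cd74065d7b3dc806099e9c7d28737c3222a718767a2dcdf07eb78e5e44e99cf7bab8fda4f0dd49a05f7e131d364f3c774a01fd91042e121332046aa85b1cf04c63f813b44617284c99ebc1e55a8c7a07971565a97584ebdf3c4aea5a086b49e5cc0143153c8989c2cad5973839337329a08e69299f1036fdc0040e6cfaba86790f22bd8051d95d93d03bbe2641a04def5d387c0a67079066800))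
(.leaf (nat_lit 0x1c9d25548c9e6b41a8d14b3af6bd08ecd19dbc494dec7833028857321b78a99d5abd098b06f414fdcedc64c093fa8bc8f0f3f9cd91de73aea248e1b009e669c1277ca8a71656e64b332577a787bdeb726b9ad736a62d9ade2aa1d78a49bacf1b5b4df80eea59b08687dfe7f92cb57e04916fe9b79848b87847dfdb9b222c7ecdb1adaf03c2056cc3d56661113f1e233facb1677107cee955ef1157aeab3e0ac586526ead68d88fa0f968b090055e8108d53588eb945d931b64405afee846a2f0c1a3f07a8150688bac5071bcdc69fc5ddb665e9095091951c0268329cbe9b84292a563b6e0ac2d14180b91c9217f65c7f6535f670a3dd2e97a7957678280e3b162f58fb45a8bc73622489f37037cea43a12b696c2a1ba4a67ae3f0481e2410fe04c031efc7d9def69fdd8610d65e4bc9e38a403b9da40b02a09158e7e48d4453870f2c076fa5adea3cce31ae7c6ceab3cd4699429fa307c9f4acc658f0c3d1f631afd61b8a94adea2898d7abca3f390f2bd9432dd69ba2cae568f12b8a8ac90de51eeaee899843a6e1ef60907c48b8d3c1ecfbc95d1537b7c25ec4e32ea054f32af41ab710835b5cbd457e1190cc02efe9d4f28d85105cf3bc7d1c8ebfee91d8e2e3f6cebcc6cdc39791f1026fccbe75f6d193d92fc6cb6302ec633e58f4304aaad29dc17ed21013b5a4ce00c738e9ea919c8432210912ec1fda936caf9293fe38a5f2c6b494120c945ceb53b379042a5f5d26c1a99291411dde724f0fd4b4e1b0e5527af63d56acc1409d0f09646783bbf31984d1ff01700180a678f7290200)))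
(.node (nat_lit 10) (.leaf (nat_lit 0x57c4a1f192d9cab376bc743bcadd0fd440e0d17acd3fb837ea88422fc9ee160490e5f27306cb14fb8ce520208e1df74332a3fe2e3dd74dafce89319a26706fa0469d53bcd8b275410f78dee71dede62b75d96c1c24c0d5bb73636821dfebe4abf6ba1803ba0ba22d7f63a6249c9d98b42b0b02fec1916d4562563d782b956b4621a4faab2df6a86cf82b03c142d26f4ad07c1143a42786f7cc84398d7f1e0e00818890adab652718fb8f2b50646be604ecc6174f946a30bc69e111b7a9468a9b1b38299b045377a79b8211bc4468a4092a6d3df5d925194558d248e8fa99ba0fab9fd6a18014c5454c32cba1589f2ff2ad64f4d709fdd90a70bbfa823f33cbc238ea86f8437d1d4f3f9de5a2e5dab79dd8cb5e1c6f1aec4b4978850721550c13f6939926381439547b367e01165df115a446f2553cec34cdb0c33328bd8e0f2354b4b01dda533a8268a5d179d2c3ba7d566f4411d6650b9b7d85678044907ad2c274e2dbba95999ee7bf028d7a38f452b09aedd6f32c64a703cdab0e1ca3f6ede939e517a8ed510b127eb9cb982476c88e74f901a645e7f927dfbbce4720b6fbe964bf147d9546f354b85ba058d814d1f9df64d864183f63138be6a38b83e354f1f404dcd73bbee1535ab30240746edd637f1fd93242b264a66cd9bd9669e63136ba871574f1344039062e04d3b7aaeae2a065a0b15c05a456309ce41fb7f12eaeaba406a9ab3a886081eb4bdc52e927fd9d944a03307998b5c4b2da033d6fc1b33bba7b92e8e39a8bd7f50f95640183bd34d7c0c49bbfce87c0a1c64610b800))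
(.leaf (nat_lit 0xa34d6b97a63b00481888d1664547a5449e07589ba73a59d67935b3c8d4ca5ab68a3c752da4ad297167f213b337e38dfaa9dafd8537408f05d6d8098f2a9f4cebc8551aeaad3a0d43dfbacbcc685440ee2358374a0bcf42e22eab22f112cf0f23a6b57670463d97781cfe515934faafc13c59ca2902cabc72f942dbdbcf2264ba0f020cdbf198ea31310b584c1cb11dcc6de7572f9a47f1494ad26a2386892a4dd96c8d1d11770385a876b55197cff64950cfa538e9b9a6dfd4bea7404417a738642f354be453e4f0921c8eede3bf7b467ffec34e040025d0d10367a3993fafdb60ec577fd340b7d7973015a47c1828658d65a19dc9ae62e166438c0c6773def75365bd55a6d8f721d9984adfefba50c54e32b6c6ee26407ff050ee1d1e62034283f6dad8a609e6f8f88ee49ebf34cb432dac4a95c2b71df623558e3d579c665729ce09a76b9bf6c36bfacc990b6fbf4ec640d163c6f25fc7cbb895f32b1e51fdef03b8611309f7fa67b2c29b42580efbb289736d1de6d4a7dfb7440e0d43fd846455c546a807d79b3a8a1ea619217a956e8fa5e643adeb5de94b92025d4df16054f47b69b422af829993dda418990292b28a44e2d05b9df58ddcb54d76e7166a1b6b6f7b9151b3aab73f7433a19c8d42361c9010b36f59a5cc9e1412d277154adf4a879591b5f892442d95d8049c610c98f5f584c5508308562941e02b4f8678aeeb3706b44b127c620aabc90f92397aa4fc253ea0851f9dc30c9b8c030218a1c0234c8ff8e74cddabdce50512601e83a7d203d8c0b21ef807c0a1b5d0f09400))))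
(.node (nat_lit 13) (.node (nat_lit 12) (.leaf (nat_lit 0x442dd42aac9e6b41a8a5501686a944cb19a79fceb3ec7e0b006954b34eed938404f2f8e29f6091a2309decc181b4d2c8f63b2e6f9fc7e8b3edd72b1046c0dee85bf1127c5c8fd612043463b0d2f2921d1c5c2ae08d9699d0ef2a794160ecb77b5a6df8f86399ac322cdebff9f6b543b00e97e9b6fbc81425e28fdb99db977ee98e3f1e1af983c5264b4880212f7bb178ac81cdbe1ed0ea918020578ea4f8373210eae37352fe572a97af0c5379fa610ea72db1c9d0dd8b5211cd62ff5a53aa617e843a1a59504aa146c4deb7de8979a08a877492593a8ff6f7f7c33e2f37b9ffe4d16a6564a21fc9409fcaa7b0d519aec253f3e21f4dd22e1492b82614aff7bb87bc3df2983c9adf424632d526848d6e77968aa9b0f171d6dcf5db532958cd9c9c9271e46cc456320b8d8603c7f75ebcb063d590b222279dc090166464ad6d056f81a4c55e7213a82cc9a36961316ab3c5fd9b877ce4e722b4a55d6224c2e7f644dc07cd20fb13ea8f6297adf4603cfdb7ff2c225f5102c91cb64e2b9c6acdb7f2ac52abd9ed5ba198cbfb31984b9baaf0b8352518b69a69e2788a64580c45ac7babb47b3995ffa9d4a9d103db7061e37a2e64cc4418f62f09d89caebb2169db1a542cc96fb0a8b7d12cda0dc0606157835d93d96a6ecb6012ed74def10d409987029aa00796ba50a9987a1cd1fce9eabf3478599bb879771fb08f441a2deab63817d346be951a8814811b8ace6911751a3f944a4830714ee3b012b30fbd73a043395e7af64dba0c814edf0395645d03934907c0c443bfbf0180a1c28e10b800))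
(.leaf (nat_lit 0xab5a2df7c66b55b6e6e675e58e5e9f79b41dec41b5a5b929cbbe57326bb114f79a5d547cf4fc85f75a1292c9effb29e7aabf9d559e3be773d71f7b3b2b5609a2a86d953b0cb8dc8c7aa48d8787bdecf26bb758cb062772da2a9d32f9bdafce4b270b92ceccf277168238ff9983e6b4e4985e7b40cc173864983d2ea1a82b7490d8c686c3c205e55e1cf5241ca4ca7f11123823ffcdd3e50893763dbb8209d52b48a8feede79c53530a81fee585651d9db29b86ef7a062b11a4796a295da5fffa41ae24056950f22444c59abdc93510a1a738e0da3f6c9769c08d3ab6d82dcd2c95589116a5cd360946a2917085bf589376536543a53d7954f4be1e36be85e15162f570741687473635938caf014890c5e12b7cdc761ac3cffba76f179626a4fe34c0091ac2a9def483ddddb7f5ff1c0e098ab06ccbf774014b1e985d7e3e8452a3132d7e26086540cfcfc5af8b6c987f5912114133a3e8ae7f7982372b540f2ee340ee2845a8ac764d98d7b870939d9dcd866ca6b5127aca6e74152b8e0acea7851170eb5887dda98cc38c331948f61465fd25a2e8f14e67126bc6fa9c82ade886fc01c9f822a99399859797c24062ebd0a284fe00580f73bc7d30046b0c37aa26ad26f0453bddc5adff8c0e21b5fe75f6d1ac1076c6d8f34f656a99b5f4305f6e329ba87ad25984cdedfa080738fd0cb2dc936c734f08221fa94a202e8465163846c806b3e5027d020aeee5e5a85c82bcda253ed34517f3a901bd740f823e067025508f5e8f462cc14272ed12606403a88dc3d8c3901e628180a1b3d0f09400)))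
(.node (nat_lit 14) (.leaf (nat_lit 0x4bae156a463b004818ec7c876e3e9fd966c5e67b813a592e7bbed376ae5d4804ad5b7555f4f5c5fb8ce5f3b3f7ef75bab6ff99f0f52c288f6d1ef486137dad5a6dae11f968af83c080f25ef13367862bdc86719c2df0d4d4f35c6833b90be493a5d176bf577d8ec32de343596f7a9c1db711ca28c19196059262dbd82b2e64d6a1b7439918aa526cb6131ca4a502e4b16de9ea7da555e6f5a2b8ea0d78c9d606efc5ea2dd52a856b0a65cd41352cb6450b705a997a39b4db0a363b4133a5f8bc0eebebd68a5375cbe6296abcfd3519a3d6ea344a19249782a54fa7a88455ccb2f388c636431ac5a69af8a764387d05843d652836e53d685cba45baa0e2320bc758527691367d08f7399de1d26e3a951df1bb76246d8c2210c18fc50723ef7e4e2684dac638145d0930dee4aa55f9c115a4cb68d53cfa4a7f9755a94dd78a903fa66f6b9dda67e4362bf93f0f865e3f4ed66f43c5dfaf01eb8ba56781071f1efdc27e10b205ab31fa5d6b028d7092ffcdfeb72d56dc7f8ca7012b1c8e2d63ffedeedb6c538314bfc1320ec7203d8ba348f73d26c185ffd33c783476ae45cb4e24d1a8c154ec053c1482248f95159cb9e43fc144bd24ff476271873563912c5e68f06a349ba4fbbba9c0de200e07b465f7e1309010324759a81c990e73962133312e5a86239f046d401fe62a08c284610ce29e4162d15d94c3560fb9c11fac415eae1b8cc6a341b02e684aeea7ac395e122d0e271428cfbf98b4220e68031980e670decc8ff80791322bd7f2ec78600b8381aa619007da860e87c0a0467a241400))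
(.leaf (nat_lit 0x47ad93a8466b55b6e658ad281f47a71fe3f088f06985b9d1c93554b347fcbbeb051a9161a4d169675275eac980a8a367b5cafcb5753207b226b37131050139f94ab8ab93e48bdd47a9792150d2f4662f1c8943de2d9215a0ef6f81df4b24675b248792d391327a422dcacb9926e6b3b00c367b4055429413c94d2ea0bf4e74e16278c622f983886fe6f1cca930eef1d8125fb5d791d76af981bbbd8477492e8ae370d84ad5f6cb5daa59b2a6f9f43d990c83c1e3e98602dd4ab262291817d6c5be8676ffaf5049642cfedeea3bbfe1e078bbd3e4604c25f549d13aa2a14faf90d1e64cf9a819b7410483974bfa569b771a527f3f60ee7239270ac762f30f4d9b87baaf7558dc9adf559c6edfdeaadb1e7787439ef4f108379b8da58d7959eb9c6f12490cb6645548a28ddda03f3779976a6379b4da8ecd5bab1e5a67fe1cad071b61a4e0c3bfd42a0fcb6b68e231187f4ed7738670e473d4ff6fb7e61355ce2e9c58b8b61b0b12763d6297a4c25f4788b5587f971f659acbeeb7b6ab95aac8d44072a81b8d94af9483e1badc3de57fa9701fa52b5a4e02533949fd3c56a3ffd2bad434421c048b450232ffc984c669c99449c4bc34fafe1d09d8b03b90c85fa98c7083c1a0b1d8b1a8426833879e4157835dac10c8eed8e31f63a35b040d40b3054299482f9627f6f3ebc5d8c1fcfd0ceb347a6d4ecf94401f8fa3c11c15ed523853a986a0d0602cb84aab8b2aa2e48cf276271472cfb7fba888d2200f9983a1c0d95c8f5e28d74c814a15047860e78386833190052c86038180a044da241400))))))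

noncomputable def TF : ℕ := (nat_lit 0x0)

theorem fok : FOk tb K16.tb TA TF := by decide +kernel

noncomputable def β : Fs E K16.E := ofTabs _ _ TA TF fok

noncomputable def U : FE β := ⟨1, K16.u⟩
noncomputable def I : FE β := ⟨1, K16.i⟩
noncomputable def Z : FE β := ⟨1, K16.z⟩

theorem rel : Rel (fin β e) (fin β a) (fin β b) (fin β s) (fin β p) (fin β q) (fin β g) U I Z := by
  decide +kernel

theorem card : Nat.card (FE β) = 8192 := by rw [FE.card, S00.card, K16.card]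

theorem top : closure {w | w ∈ [fin β e, fin β a, fin β b, fin β s, fin β p, fin β q, fin β g, U, I, Z]} = ⊤ :=
  FE.eq_top (fun w hw => subset_closure ((by decide +kernel : ∀ w ∈ tb.gs, (⟨El.of tb w, 1⟩ : FE β) ∈
    [fin β e, fin β a, fin β b, fin β s, fin β p, fin β q, fin β g, U, I, Z]) w hw))
    fun w hw => subset_closure ((by decide +kernel : ∀ w ∈ K16.tb.gs, (⟨1, El.of K16.tb w⟩ : FE β) ∈
    [fin β e, fin β a, fin β b, fin β s, fin β p, fin β q, fin β g, U, I, Z]) w hw)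

theorem fth : ∀ k, k ≠ 1 → ∀ r, [e, g, b, s, a, q, p].any
    (fun w => decide (r * β.act k w ≠ w * r)) = true := by
  decide +kernel

def PM : ℕ := 0xf13345918040b1cfb32e9b9fefd38c8e0f20887422cf0040b13e0ddb8f86fbbc5ee987fdfa760f91208204dc27704ef7befbf647b11f621004f7bff61081f82

theorem pok : POk β PM 39142 := by decide +kernel

def WS : List ℕ :=
  [0, 4, 5, 27, 6, 28, 31, 103, 7, 29, 32, 104, 34, 106, 112, 264, 14, 62, 53, 165, 63, 194, 172,
  362, 64, 195, 173, 363, 197, 396, 372, 496, 20]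

theorem wS : WOk (fin β s) WS := by decide +kernel

def Y : List (ℕ × ℕ) :=
  [(1, 0), (10, 7168), (37, 5), (39, 1029), (40, 5637), (43, 6), (44, 1542), (46, 4404), (48, 1024),
  (49, 1536), (74, 5632), (92, 4096), (125, 7173), (129, 2560), (133, 2942), (145, 7476), (148,
  2565), (158, 2566), (290, 31), (291, 1918), (292, 4102), (294, 1541), (302, 1055), (303, 5638),
  (308, 3072), (334, 1030), (387, 4101), (400, 6014), (404, 3077), (405, 3380), (407, 3078), (450,
  7174)]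

def LL : List (ℕ × List ℕ × List (ℕ × ℕ)) :=
  [(7, [0, 4, 5, 27, 6, 28, 31, 103, 7, 29, 32, 104, 34, 106, 112, 264, 14, 62, 53, 165, 63, 194,
  172, 362, 64, 195, 173, 363, 197, 396, 372, 496, 20], [(7, 0), (29, 512), (32, 3153), (34, 1255),
  (64, 231), (79, 81), (84, 60), (104, 3665), (106, 2620), (112, 1596), (173, 3132), (179, 1105),
  (195, 527), (197, 1024), (218, 593), (224, 3072), (227, 1084), (229, 572), (236, 3380), (264,
  2063), (363, 3644), (369, 3025), (372, 1617), (375, 1767), (382, 1536), (396, 2641), (413, 3584),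
  (420, 3599), (423, 2560), (496, 2048), (497, 2129), (500, 2108)]), (512, [], [(512, 0), (516, 7),
  (517, 6), (526, 20), (528, 199), (537, 192), (539, 34), (565, 12), (574, 188), (577, 81), (583,
  350), (608, 383), (677, 57), (714, 155), (900, 21), (970, 87), (5632, 1536), (5634, 1691), (5637,
  1542), (5646, 1994), (5649, 1617), (5660, 1543), (5685, 1592), (5692, 1623), (5735, 1570), (5769,
  1557), (5826, 1772), (5949, 1812), (5988, 1977), (5994, 1918), (6101, 1728), (6105, 1735)]),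
  (1024, [0, 5, 6, 31, 14, 53, 63, 172, 16, 71, 72, 214, 25, 96, 97, 253, 20, 83, 56, 178, 189, 336,
  297, 174, 201, 399, 317, 473, 233, 426, 356, 469, 1024], [(1024, 0), (1029, 60), (1049, 1), (1087,
  81), (1095, 123), (1196, 231), (1341, 144), (1493, 1537)]), (1030, [0, 5, 6, 31, 14, 53, 63, 172,
  16, 71, 72, 214, 25, 96, 97, 253, 20, 83, 56, 178, 189, 336, 297, 174, 201, 399, 317, 473, 233,
  426, 356, 469, 1024], [(1030, 0), (1038, 81), (1040, 144), (1055, 60), (1077, 231), (1120, 1537),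
  (1380, 1), (1497, 123)]), (1044, [0, 5, 6, 31, 14, 53, 63, 172, 16, 71, 72, 214, 25, 96, 97, 253,
  20, 83, 56, 178, 189, 336, 297, 174, 201, 399, 317, 473, 233, 426, 356, 469, 1024], [(1044, 0),
  (1080, 527), (1096, 144), (1107, 60), (1121, 550), (1198, 231), (1202, 593), (1213, 512), (1225,
  513), (1238, 656), (1257, 1), (1277, 1537), (1321, 81), (1360, 572), (1423, 123), (1450, 635)]),
  (3072, [], [(3072, 0), (3077, 94), (3078, 219), (3086, 81), (3087, 10), (3092, 60), (3103, 4),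
  (3125, 198), (3128, 121), (3135, 120), (3139, 1037), (3140, 293), (3155, 192), (3244, 21), (3246,
  66), (3250, 16), (3258, 1537), (3261, 231), (3272, 1025), (3279, 332), (3303, 1659), (3369, 29),
  (3379, 1835), (3382, 157), (3408, 7), (3461, 13), (3470, 52), (3494, 1549), (3497, 299), (3534,
  123), (3535, 1), (3537, 144), (6144, 512), (6147, 3585), (6149, 581), (6150, 516), (6158, 593),
  (6164, 527), (6166, 696), (6167, 513), (6175, 725), (6197, 710), (6200, 578), (6205, 2049), (6207,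
  533), (6225, 522), (6227, 519), (6234, 811), (6266, 2561), (6296, 564), (6299, 550), (6316, 632),
  (6318, 633), (6322, 541), (6333, 572), (6335, 656), (6376, 695), (6424, 3597), (6430, 635), (6441,
  528), (6480, 704), (6488, 644), (6490, 525), (6493, 805)]), (7680, [0, 4, 5, 27, 6, 28, 31, 103,
  7, 29, 32, 104, 34, 106, 112, 264, 14, 62, 53, 165, 63, 194, 172, 362, 64, 195, 173, 363, 197,
  396, 372, 496, 20], [(7680, 0), (7684, 1), (7707, 123), (7708, 144), (7733, 60), (7736, 81),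
  (7783, 332), (7854, 231)]), (7685, [0, 4, 5, 27, 6, 28, 31, 103, 7, 29, 32, 104, 34, 106, 112,
  264, 14, 62, 53, 165, 63, 194, 172, 362, 64, 195, 173, 363, 197, 396, 372, 496, 20], [(7685, 0),
  (7694, 60), (7742, 123), (7845, 1), (7858, 81), (7874, 332), (7977, 231), (8042, 144)]), (7686,
  [0, 4, 5, 27, 6, 28, 31, 103, 7, 29, 32, 104, 34, 106, 112, 264, 14, 62, 53, 165, 63, 194, 172,
  362, 64, 195, 173, 363, 197, 396, 372, 496, 20], [(7686, 0), (7700, 81), (7711, 512), (7743, 572),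
  (7762, 144), (7763, 527), (7848, 1), (7852, 60), (7869, 593), (7914, 332), (8016, 231), (8044,
  513), (8048, 123), (8072, 656), (8133, 635), (8165, 550)])]

theorem cok : par PM 39142 (fin β e) = true ∧ COk PM 39142 (fin β e) Y ∧ Y.length = 32 ∧ (∀ c ∈ LL,
    COk PM 39142 (el β c.1) c.2.2 ∧ (c.2.2.length = 64 ∨ el β c.1 ∈ [U] ∨
      WOk (el β c.1) c.2.1)) ∧ ((Y ++ (LL.map (·.2.2)).flatten).map (·.1)).Nodup := by
  decide +kernel

theorem cov : ∀ w : FE β, par PM 39142 w = true → w * w = 1 →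
    idx w ∈ (Y ++ (LL.map (·.2.2)).flatten).map (·.1) := by
  decide +kernel

theorem kill {H : Type*} [Group H] [Finite H] {L : Subgroup H} {ψ : E →* H} {u x y i z : H}
    {C : H → Prop} {n m : ℕ} (F : Pre L ψ u x y) (D : FD (ψ e) C n m)
    (hi : List.Forall₂ (Act ψ i) [e, a, b, s, p, q, g]
      [a * s * e, p * a, q * b * a * a, p * s, p, q, g * q * a * a])
    (hz : List.Forall₂ (Act ψ z) [e, a, b, s, p, q, g]
      [b * s * e, p * b * b * a, q * b, q * s, p, q, g * p * e * q * e])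
    (ii : i * i = 1) (iu : i * u = u * i) (zz : z * z = ψ 1)
    (iz : i * z * (i * z) = ψ 1) (zu : z⁻¹ * u * z * u * (z⁻¹ * u * z * u) = ψ 1) : False := by
  have hu : List.Forall₂ (Act ψ u) [e, a, b, s, p, q, g] [e, a, a⁻¹ * b⁻¹, s, p, q⁻¹ * p⁻¹, g * s] :=
    fa (au F) (by decide +kernel)
  simp only [List.forall₂_cons, Act, map_mul, map_inv, map_one] at hu hi hz zz iz zu
  obtain ⟨u1, u2, u3, u4, u5, u6, u7, -⟩ := hu
  obtain ⟨i1, i2, i3, i4, i5, i6, i7, -⟩ := hi
  obtain ⟨z1, z2, z3, z4, z5, z6, z7, -⟩ := hz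
  obtain ⟨θ, k⟩ := hom_of_card (p := [fin β e, fin β a, fin β b, fin β s, fin β p, fin β q, fin β g, U, I, Z])
    (l := [ψ e, ψ a, ψ b, ψ s, ψ p, ψ q, ψ g, u, i, z]) rfl top ((bound (rel.prod
      ⟨S00.rel.map ψ, S00.u2 F, u1, u2, u3, u4, u5, u6, u7, ii, iu, i1, i2, i3, i4, i5, i6, i7,
        z1, z2, z3, z4, z5, z6, z7, zz, iz, zu⟩)).trans card.ge)
  simp only [List.map, List.cons.injEq, and_true] at k
  obtain ⟨k1, k2, k3, k4, k5, k6, k7, k8, k9, -⟩ := k
  have c : θ.comp (fin β) = ψ := MonoidHom.ext fun w =>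
    (S00.eq_top (K := (θ.comp (fin β)).eqLocus ψ) k1 k2 k3 k4 k5 k6 k7).ge (mem_top w)
  have j : Function.Injective θ := FE.inj' (c ▸ inj F) fth
  have mv : ∀ {w w' l}, WOk w l → y * θ w * y⁻¹ = θ w' → ¬ C (θ w') := fun h k c =>
    F.fo.notC D (IsPGroup.of_card (n := 13) card) j (nodup_el h.1) h.2 (cj_symm k ▸ D.cj _ y⁻¹ c)
  obtain ⟨-, -, -, -, -, -, -, -, -, -, -, -, -, -, -, -, -, -, ys, -, -, ye⟩ := F.fo.r2
  refine F.fo.kill D card j pok k1 (List.forall_mem_cons.2 ⟨mv wS (by rw [k4, k8, ys]), ?_⟩) cok cov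
  exact fun _ h => absurd h List.not_mem_nil

end H30.CM.Z3
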